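import Cfsg.Agent.Lib.CoprimeAbCent.Lines

/-!
An abelian invariant Sylow subgroup permutes with all the others.
-/

set_option autoImplicit false
set_option linter.unusedSectionVars false
set_option linter.style.haveILetI false

namespace CfsgLib.CoprimeAbCent

open Subgroup Cfsg
open scoped commutatorElement IsMulCommutative Pointwise

universe u
variable {Γ : Type u} [Group Γ] [Finite Γ] {A K : Subgroup Γ} {q : ℕ}

namespace MinCE

variable (h : MinCE A K q)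
include h

/-- Two invariant Sylow subgroups of a proper invariant subgroup permute. -/
theorem prod_comm {p r : ℕ} [Fact p.Prime] [Fact r.Prime] {P R L : Subgroup Γ} (hP : Syl A K p P)
    (hR : Syl A K r R) (hL : L ≤ K) (hLne : L ≠ K) (hLi : Inv A L) (hPL : P ≤ L) (hRL : R ≤ L) :
    (P : Set Γ) * (R : Set Γ) = (R : Set Γ) * (P : Set Γ) := by
  have hL' := h.toHypF.mono hL hLi
  have hsol := h.proper L hL hLne hLi
  have hP' : Syl A L p P := by simpa [inf_eq_left.2 hPL] using hP.inf h.toHypF hL hLi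
  have hR' : Syl A L r R := by simpa [inf_eq_left.2 hRL] using hR.inf h.toHypF hL hLi
  set R₁ := R ⊓ ⁅L, L⁆
  set R₂ := R ⊓ normalizer (P : Set Γ)
  have hR₁L : Inv L R₁ := hL'.derived_syl_inv hsol hR'
  have hgen : R ≤ R₁ ⊔ R₂ := h.toHyp.gen hR.le hR.inv fun a ha ha1 x hx => by
    obtain ⟨y, hy, z, hz, rfl⟩ := hL'.split hsol hP' hR' ha ha1 hx
    exact mul_mem (Subgroup.mem_sup_left hy.1) (Subgroup.mem_sup_right hz.1)
  have key : ∀ x ∈ P, ∀ y ∈ R, ∃ y' ∈ R, ∃ x' ∈ P, x * y = y' * x' := by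
    intro x hx y hy
    obtain ⟨d, hd, n, hn, rfl⟩ := CfsgLib.mem_sup_of_le_normalizer (A := R₂) (W := R₁)
      (fun g hg => hR₁L (hRL hg.1)) (hgen hy)
    refine ⟨x * d * x⁻¹ * n, mul_mem (hR₁L.conj_mem (hPL hx) hd).1 hn.1, n⁻¹ * x * n, ?_, by group⟩
    simpa using (show Inv R₂ P from inf_le_right).conj_mem (inv_mem hn) hx
  ext g
  simp only [Set.mem_mul, SetLike.mem_coe]
  constructor
  · rintro ⟨x, hx, y, hy, rfl⟩
    obtain ⟨y', hy', x', hx', e⟩ := key x hx y hy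
    exact ⟨y', hy', x', hx', e.symm⟩
  · rintro ⟨y, hy, x, hx, rfl⟩
    obtain ⟨y', hy', x', hx', e⟩ := key x⁻¹ (inv_mem hx) y⁻¹ (inv_mem hy)
    refine ⟨x'⁻¹, inv_mem hx', y'⁻¹, inv_mem hy', ?_⟩
    rw [← mul_inv_rev, ← e, mul_inv_rev, inv_inv, inv_inv]

/-- An abelian invariant Sylow subgroup permutes with every other one. -/
theorem permute {p r : ℕ} [Fact p.Prime] [Fact r.Prime] {P R : Subgroup Γ} (hP : Syl A K p P)
    (hR : Syl A K r R) (hab : ∀ x ∈ P, ∀ y ∈ P, Commute x y) :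
    (P : Set Γ) * (R : Set Γ) = (R : Set Γ) * (P : Set Γ) := by
  classical
  by_cases hrp : r = p
  · subst hrp; rw [hR.unique hP]
  by_cases hR0 : R = ⊥
  · subst hR0; simp
  by_cases hP0 : P = ⊥
  · subst hP0; simp
  have hp : p ∣ Nat.card K := by
    by_contra hn; exact hP0 ((hP.eq_bot_iff').2 hn)
  have hr : r ∣ Nat.card K := by
    by_contra hn; exact hR0 ((hR.eq_bot_iff').2 hn)
  obtain ⟨s, hs, S, hsp, hS, hact⟩ := h.exists_actor hp hP hab
  have hlines := h.toHypF.lines hsp hP hS hact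
  set R₀ := R ⊓ normalizer (P : Set Γ)
  have hR₀A : Inv A R₀ := hR.inv.inf hP.inv.normalizer
  let 𝒲 : Set (Subgroup Γ) := {U | U ≤ R ∧ Inv A U ∧ Inv P U}
  set W := ⨆ U ∈ 𝒲, U
  have hWR : W ≤ R := iSup₂_le fun U hU => hU.1
  have hsup : ∀ (S : Subgroup Γ), (∀ U ∈ 𝒲, Inv S U) → Inv S W := by
    intro S hS
    refine inv_of_le fun g hg x hx => ?_
    have hle : W ≤ W.comap (MulAut.conj g).toMonoidHom := iSup₂_le fun U hU y hy =>
      Subgroup.mem_iSup_of_mem U (Subgroup.mem_iSup_of_mem hU ((hS U hU).conj_mem hg hy))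
    exact hle hx
  have hWA : Inv A W := hsup A fun U hU => hU.2.1
  have hWP : Inv P W := hsup P fun U hU => hU.2.2
  have hW : ∀ U ∈ 𝒲, U ≤ W := fun U hU y hy => Subgroup.mem_iSup_of_mem U (Subgroup.mem_iSup_of_mem hU hy)
  -- `R₀` normalises `W`
  have hWR₀ : Inv R₀ W := by
    set T := ⨆ g ∈ R₀, W.map (MulAut.conj g).toMonoidHom
    have hmemT : ∀ g ∈ R₀, ∀ y ∈ W, g * y * g⁻¹ ∈ T := fun g hg y hy =>
      Subgroup.mem_iSup_of_mem g (Subgroup.mem_iSup_of_mem hg ⟨y, hy, rfl⟩)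
    have hTR : T ≤ R := iSup₂_le fun g hg => by
      rintro _ ⟨y, hy, rfl⟩
      exact mul_mem (mul_mem hg.1 (hWR hy)) (inv_mem hg.1)
    have hTi : ∀ {S : Subgroup Γ}, Inv S W → (∀ s ∈ S, ∀ g ∈ R₀, ∀ y ∈ W, s * (g * y * g⁻¹) * s⁻¹ ∈ T) →
        Inv S T := by
      intro S _ hS
      refine inv_of_le fun s hs x hx => ?_
      have hle : T ≤ T.comap (MulAut.conj s).toMonoidHom := iSup₂_le fun g hg => by
        rintro _ ⟨y, hy, rfl⟩
        exact hS s hs g hg y hy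
      exact hle hx
    have hTA : Inv A T := hTi hWA fun s hs g hg y hy => by
      have e : s * (g * y * g⁻¹) * s⁻¹ = (s * g * s⁻¹) * (s * y * s⁻¹) * (s * g * s⁻¹)⁻¹ := by group
      exact e ▸ hmemT _ (hR₀A.conj_mem hs hg) _ (hWA.conj_mem hs hy)
    have hTP : Inv P T := hTi hWP fun s hs g hg y hy => by
      have hs' : g⁻¹ * s * g ∈ P := by simpa using (show Inv R₀ P from inf_le_right).conj_mem (inv_mem hg) hs
      have e : s * (g * y * g⁻¹) * s⁻¹ = g * ((g⁻¹ * s * g) * y * (g⁻¹ * s * g)⁻¹) * g⁻¹ := by group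
      exact e ▸ hmemT g hg _ (hWP.conj_mem hs' hy)
    exact inv_of_le fun g hg y hy => hW T ⟨hTR, hTA, hTP⟩ (hmemT g hg y hy)
  -- the fixed points on the lines of `P`
  have hline : ∀ d ∈ A, d ≠ 1 → cz P d ≠ ⊥ →
      ∀ x ∈ cz R d, ∃ y ∈ W, ∃ z ∈ cz R₀ d, x = y * z := by
    intro d hd hd1 hPd x hx
    set Q := cz P d
    have hQK : Q ≤ K := inf_le_left.trans hP.le
    have hQA : Inv A Q := h.toHyp.inv_cz hP.inv hd
    set H := K ⊓ centralizer (Q : Set Γ)
    have hHi : Inv A H := h.inv.inf hQA.centralizer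
    have hHne : H ≠ K := h.centralizer_ne hQK hQA hPd
    have hH := h.toHypF.mono (show H ≤ K from inf_le_left) hHi
    have hsol := h.proper H inf_le_left hHne hHi
    have hPH : P ≤ H := le_inf hP.le fun g hg y hy => (hab y hy.1 g hg).eq
    have hP' : Syl A H p P := inf_eq_left.2 hPH ▸ hP.inf h.toHypF (L := H) inf_le_left hHi
    have hR' := hR.inf h.toHypF (L := H) inf_le_left hHi
    have hxH : x ∈ H := ⟨hR.le hx.1, fun y hy =>
      (h.abel d hd hd1 y (hQK hy) x (hR.le hx.1) (mem_cz.1 hy).2 (mem_cz.1 hx).2).eq⟩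
    obtain ⟨y, hy, z, hz, rfl⟩ := hH.split hsol hP' hR' hd hd1 (mem_cz.2 ⟨⟨hx.1, hxH⟩, (mem_cz.1 hx).2⟩)
    refine ⟨y, hW ((R ⊓ H) ⊓ ⁅H, H⁆) ⟨inf_le_left.trans inf_le_left, hR'.inv.inf (hHi.commutator hHi),
      hPH.trans (hH.derived_syl_inv hsol hR')⟩ hy.1, z, ⟨⟨hz.1.1.1, hz.1.2⟩, hz.2⟩, rfl⟩
  by_cases hfull : ∀ e ∈ A, e ≠ 1 → cz P e ≠ ⊥
  · have hR' : R ≤ W ⊔ R₀ := h.toHyp.gen hR.le hR.inv fun d hd hd1 x hx => by
      obtain ⟨y, hy, z, hz, rfl⟩ := hline d hd hd1 (hfull d hd hd1) x hx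
      exact mul_mem (Subgroup.mem_sup_left hy) (Subgroup.mem_sup_right hz.1)
    by_cases hW0 : W = ⊥
    · rw [hW0, bot_sup_eq] at hR'
      exact h.prod_comm hP hR inf_le_left (h.normalizer_ne hP.le hP.inv hP0 (h.not_solv (solvable_of_pgroup hP.pgrp)))
        (h.inv.inf hP.inv.normalizer) (le_inf hP.le Subgroup.le_normalizer) (le_inf hR.le (hR'.trans inf_le_right))
    · exact h.prod_comm hP hR inf_le_left (h.normalizer_ne (hWR.trans hR.le) hWA hW0
          (h.not_solv (solvable_of_pgroup (hR.pgrp.to_le hWR))))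
        (h.inv.inf hWA.normalizer) (le_inf hP.le hWP)
        (le_inf hR.le (hR'.trans (sup_le Subgroup.le_normalizer hWR₀)))
  · push Not at hfull
    obtain ⟨e, he, he1, hPe⟩ := hfull
    have hoff : ∀ d ∈ A, d ∉ zpowers e → cz R d ≤ W := by
      intro d hd hde x hx
      have hd1 : d ≠ 1 := fun e' => hde (e' ▸ one_mem _)
      obtain ⟨y, hy, z, hz, rfl⟩ := hline d hd hd1 (hlines e he he1 hPe d hd hde) x hx
      have hZc : cz R₀ d ≤ centralizer (P : Set Γ) := h.toHypF.off hrp hP.le hP.pgrp hP.inv he he1 hd hde hPe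
        (inf_le_inf_right _ (inf_le_left.trans hR.le)) (hR.pgrp.to_le (inf_le_left.trans inf_le_left))
        (h.toHyp.inv_cz hR₀A hd) (inf_le_left.trans inf_le_right)
      exact mul_mem hy (hW (cz R₀ d) ⟨inf_le_left.trans inf_le_left, h.toHyp.inv_cz hR₀A hd,
        inv_of_cent (Subgroup.le_centralizer_iff.1 hZc)⟩ hz)
    have hE : ⁅R, zpowers e⁆ ≤ W := h.toHypF.commutator_line_le he he1 hR.le hR.inv hR.pgrp hoff
    have hRW : Inv R W := inv_of_le fun g hg y hy => by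
      rw [show g * y * g⁻¹ = ⁅g, y⁆ * y by simp [commutatorElement_def]]
      exact mul_mem (hE (h.toHypF.derived_le_line he he1 hR.le hR.inv hR.pgrp
        (Subgroup.commutator_mem_commutator hg (hWR hy)))) hy
    have hW0 : W ≠ ⊥ := by
      intro hW0
      refine h.not_le_line hr hR he he1 fun x hx => ?_
      obtain ⟨y, hy, c, hc, rfl⟩ := h.toHypF.decomp_line he hR.le hR.inv hR.pgrp hx
      have hy1 : y = 1 := Subgroup.mem_bot.1 (hW0 ▸ hE hy)
      rw [hy1, one_mul]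
      exact mem_cz.2 ⟨hR.le hc.1, (mem_cz.1 hc).2⟩
    exact h.prod_comm hP hR inf_le_left (h.normalizer_ne (hWR.trans hR.le) hWA hW0
        (h.not_solv (solvable_of_pgroup (hR.pgrp.to_le hWR))))
      (h.inv.inf hWA.normalizer) (le_inf hP.le hWP) (le_inf hR.le hRW)

end MinCE

end CfsgLib.CoprimeAbCent
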