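import Cfsg.Agent.Lib.CoprimeAbCent.Span

/-!
A noncyclic group of order `q²` acting coprimely with abelian centralisers.
-/

set_option autoImplicit false
set_option linter.unusedSectionVars false
set_option linter.style.haveILetI false

namespace CfsgLib.CoprimeAbCent

open Subgroup
open scoped commutatorElement IsMulCommutative

universe u v
variable {Γ : Type u} [Group Γ]

/-- `A` normalises `H`. -/
abbrev Inv (A H : Subgroup Γ) : Prop := A ≤ normalizer (H : Set Γ)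

/-- The fixed points of `a` in `H`. -/
abbrev cz (H : Subgroup Γ) (a : Γ) : Subgroup Γ := H ⊓ centralizer ({a} : Set Γ)

theorem mem_cz {H : Subgroup Γ} {a x : Γ} : x ∈ cz H a ↔ x ∈ H ∧ a * x = x * a := by
  rw [Subgroup.mem_inf, Subgroup.mem_centralizer_singleton_iff]
  exact and_congr_right fun _ => eq_comm

/-- The hypothesis. -/
structure Hyp (A K : Subgroup Γ) (q : ℕ) : Prop where
  prime : q.Prime
  card : Nat.card A = q ^ 2
  noncyc : ¬ IsCyclic A
  inv : Inv A K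
  cop : ¬ q ∣ Nat.card K
  abel : ∀ a ∈ A, a ≠ 1 → ∀ x ∈ K, ∀ y ∈ K, a * x = x * a → a * y = y * a → Commute x y

/-- The hypothesis, with no common fixed point. -/
structure HypF (A K : Subgroup Γ) (q : ℕ) : Prop extends Hyp A K q where
  fix : ∀ x ∈ K, (∀ a ∈ A, a * x = x * a) → x = 1

section Inv

variable [Finite Γ] {A H L : Subgroup Γ}

theorem Inv.conj_mem (h : Inv A H) {a x : Γ} (ha : a ∈ A) (hx : x ∈ H) : a * x * a⁻¹ ∈ H :=
  (Subgroup.mem_normalizer_iff.1 (h ha) x).1 hx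

theorem inv_of_map {S : Subgroup Γ} (h : ∀ g ∈ S, H.map (MulAut.conj g).toMonoidHom = H) : Inv S H :=
  fun g hg => Subgroup.mem_normalizer_iff_map_conj_eq.2 (h g hg)

theorem Inv.inf (h : Inv A H) (h' : Inv A L) : Inv A (H ⊓ L) := fun _ ha => mem_normalizer_inf (h ha) (h' ha)

theorem Inv.sup (h : Inv A H) (h' : Inv A L) : Inv A (H ⊔ L) :=
  fun _ ha => Subgroup.normalizer_inf_normalizer_le_normalizer_sup H L ⟨h ha, h' ha⟩

theorem Inv.commutator (h : Inv A H) (h' : Inv A L) : Inv A ⁅H, L⁆ := inv_of_map fun g hg => by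
  rw [Subgroup.map_commutator]
  exact congrArg₂ (⁅·, ·⁆) (Subgroup.mem_normalizer_iff_map_conj_eq.1 (h hg))
    (Subgroup.mem_normalizer_iff_map_conj_eq.1 (h' hg))

theorem Inv.centralizer (h : Inv A H) : Inv A (centralizer (H : Set Γ)) := by
  intro a ha
  have key : ∀ b ∈ A, ∀ x ∈ Subgroup.centralizer (H : Set Γ), b * x * b⁻¹ ∈ Subgroup.centralizer (H : Set Γ) := by
    intro b hb x hx
    rw [Subgroup.mem_centralizer_iff] at hx ⊢
    intro y hy
    have hy' : b⁻¹ * y * b ∈ H := by simpa using h.conj_mem (inv_mem hb) hy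
    calc y * (b * x * b⁻¹) = b * ((b⁻¹ * y * b) * x) * b⁻¹ := by group
      _ = b * (x * (b⁻¹ * y * b)) * b⁻¹ := by rw [hx _ hy']
      _ = _ := by group
  refine Subgroup.mem_normalizer_iff.2 fun x => ⟨key a ha x, fun hx => ?_⟩
  simpa [mul_assoc] using key a⁻¹ (inv_mem ha) _ hx

theorem Inv.normalizer (h : Inv A H) : Inv A (normalizer (H : Set Γ)) :=
  h.trans Subgroup.le_normalizer

theorem Inv.subset (h : Inv A H) {B : Subgroup Γ} (hB : B ≤ A) : Inv B H := hB.trans h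

end Inv

namespace Hyp

variable [Finite Γ] {A K : Subgroup Γ} {q : ℕ} (h : Hyp A K q)
include h

theorem comm {a b : Γ} (ha : a ∈ A) (hb : b ∈ A) : a * b = b * a := by
  haveI : Fact q.Prime := ⟨h.prime⟩
  exact congrArg Subtype.val (IsPGroup.commutative_of_card_eq_prime_sq h.card (⟨a, ha⟩ : A) ⟨b, hb⟩)

theorem order {a : Γ} (ha : a ∈ A) (ha1 : a ≠ 1) : orderOf a = q := by
  have hd : orderOf (⟨a, ha⟩ : A) ∣ q ^ 2 := h.card ▸ orderOf_dvd_natCard _
  rw [Subgroup.orderOf_mk] at hd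
  obtain ⟨i, hi, he⟩ := (Nat.dvd_prime_pow h.prime).1 hd
  interval_cases i
  · exact absurd (orderOf_eq_one_iff.1 (by simpa using he)) ha1
  · simpa using he
  · exact absurd (isCyclic_of_orderOf_eq_card (⟨a, ha⟩ : A) (by rw [Subgroup.orderOf_mk, he, h.card])) h.noncyc

theorem pow_q {a : Γ} (ha : a ∈ A) : a ^ q = 1 := by
  by_cases ha1 : a = 1
  · simp [ha1]
  · rw [← h.order ha ha1, pow_orderOf_eq_one]

theorem card_zpowers {a : Γ} (ha : a ∈ A) (ha1 : a ≠ 1) : Nat.card (zpowers a) = q := by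
  rw [Nat.card_zpowers, h.order ha ha1]

theorem gen_two {a b : Γ} (ha : a ∈ A) (hb : b ∈ A) (ha1 : a ≠ 1) (hab : b ∉ zpowers a) :
    A ≤ zpowers a ⊔ zpowers b := by
  set B := zpowers a ⊔ zpowers b
  have hBA : B ≤ A := sup_le (zpowers_le.2 ha) (zpowers_le.2 hb)
  have hd : Nat.card B ∣ q ^ 2 := h.card ▸ Subgroup.card_dvd_of_le hBA
  obtain ⟨i, hi, he⟩ := (Nat.dvd_prime_pow h.prime).1 hd
  have hlt : Nat.card (zpowers a) < Nat.card B := by
    refine lt_of_le_of_ne (Nat.le_of_dvd Nat.card_pos (Subgroup.card_dvd_of_le le_sup_left)) fun e => hab ?_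
    rw [Subgroup.eq_of_le_of_card_ge (le_sup_left : zpowers a ≤ B) e.ge]
    exact Subgroup.mem_sup_right (mem_zpowers b)
  rw [h.card_zpowers ha ha1, he] at hlt
  have : i = 2 := by
    rcases Nat.lt_or_ge 1 i with h1 | h1
    · omega
    · exact absurd ((Nat.pow_le_pow_right h.prime.pos h1).trans_eq (pow_one q)) (not_le.2 hlt)
  exact (Subgroup.eq_of_le_of_card_ge hBA (by rw [h.card, he, this])).ge

theorem fixed_two {a b x : Γ} (ha : a ∈ A) (hb : b ∈ A) (ha1 : a ≠ 1) (hab : b ∉ zpowers a)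
    (hax : a * x = x * a) (hbx : b * x = x * b) : ∀ c ∈ A, c * x = x * c := by
  intro c hc
  have : zpowers a ⊔ zpowers b ≤ Subgroup.centralizer ({x} : Set Γ) :=
    sup_le (zpowers_le.2 (Subgroup.mem_centralizer_singleton_iff.2 hax))
      (zpowers_le.2 (Subgroup.mem_centralizer_singleton_iff.2 hbx))
  exact Subgroup.mem_centralizer_singleton_iff.1 (this (h.gen_two ha hb ha1 hab hc))

theorem exists_not_mem (e : Γ) (he : e ∈ A) : ∃ d ∈ A, d ∉ zpowers e := by
  by_contra hall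
  push Not at hall
  have hle : A ≤ zpowers e := hall
  exact h.noncyc ((le_antisymm hle (zpowers_le.2 he)) ▸ inferInstance)

theorem not_mem_symm {c d : Γ} (hc : c ∈ A) (hd : d ∈ A) (hc1 : c ≠ 1) (hcd : d ∉ zpowers c) :
    d ≠ 1 ∧ c ∉ zpowers d := by
  have hd1 : d ≠ 1 := fun e => hcd (e ▸ one_mem _)
  refine ⟨hd1, fun hm => hcd ?_⟩
  have : zpowers c = zpowers d := Subgroup.eq_of_le_of_card_ge (zpowers_le.2 hm)
    (by rw [h.card_zpowers hc hc1, h.card_zpowers hd hd1])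
  exact this ▸ mem_zpowers d

theorem inv_singleton {a : Γ} (ha : a ∈ A) : Inv A (Subgroup.centralizer ({a} : Set Γ)) := by
  intro b hb
  have hb' : b ∈ Subgroup.centralizer ({a} : Set Γ) := Subgroup.mem_centralizer_singleton_iff.2 (h.comm hb ha)
  exact Subgroup.le_normalizer hb'

theorem inv_cz {H : Subgroup Γ} (hH : Inv A H) {a : Γ} (ha : a ∈ A) : Inv A (cz H a) :=
  hH.inf (h.inv_singleton ha)

theorem cop' {U : Subgroup Γ} (hU : U ≤ K) : (Nat.card A).Coprime (Nat.card U) := by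
  rw [h.card]
  exact (h.prime.coprime_iff_not_dvd.2 fun hd => h.cop (hd.trans (Subgroup.card_dvd_of_le hU))).pow_left 2

theorem cop_zpowers {U : Subgroup Γ} (hU : U ≤ K) {a : Γ} (ha : a ∈ A) :
    (Nat.card (zpowers a)).Coprime (Nat.card U) :=
  (h.cop' hU).coprime_dvd_left (Subgroup.card_dvd_of_le (zpowers_le.2 ha))

theorem solvA : Group.IsSolvable A := by
  haveI : Fact q.Prime := ⟨h.prime⟩
  haveI := (IsPGroup.of_card h.card).isNilpotent
  infer_instance

theorem prime_ne {r : ℕ} (hr : r.Prime) (hd : r ∣ Nat.card K) : q ≠ r := fun e => h.cop (e ▸ hd)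

/-- Invariant subgroups are generated by the fixed points. -/
theorem gen {U Y : Subgroup Γ} (hU : U ≤ K) (hUi : Inv A U)
    (hY : ∀ a ∈ A, a ≠ 1 → cz U a ≤ Y) : U ≤ Y := by
  haveI : IsMulCommutative A := ⟨⟨fun a b => Subtype.ext (h.comm a.2 b.2)⟩⟩
  rw [← coprime_generated_by_centralizers h.noncyc hUi (h.cop' hU)]
  exact iSup₂_le fun a ha => hY a ha.1 ha.2

theorem mono {L : Subgroup Γ} (hL : L ≤ K) (hLi : Inv A L) : Hyp A L q where
  prime := h.prime
  card := h.card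
  noncyc := h.noncyc
  inv := hLi
  cop hd := h.cop (hd.trans (Subgroup.card_dvd_of_le hL))
  abel a ha ha1 x hx y hy := h.abel a ha ha1 x (hL hx) y (hL hy)

omit h in
theorem _root_.CfsgLib.CoprimeAbCent.inv_map {Γ' : Type v} [Group Γ'] (f : Γ →* Γ') {H : Subgroup Γ}
    (hH : Inv A H) : Inv (A.map f) (H.map f) :=
  (Subgroup.map_mono hH).trans (Subgroup.le_normalizer_map f)

theorem inj_on {Γ' : Type v} [Group Γ'] (f : Γ →* Γ') (hker : f.ker ≤ K) {a : Γ} (ha : a ∈ A) (hfa : f a = 1) :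
    a = 1 :=
  Subgroup.disjoint_def.1 (Subgroup.disjoint_of_coprime_natCard (h.cop' le_rfl)) ha (hker hfa)

/-- Fixed points lift along a homomorphism. -/
theorem lift_fixed {Γ' : Type v} [Group Γ'] (f : Γ →* Γ') (hker : f.ker ≤ K) {S : Subgroup Γ} (hS : S ≤ A)
    {x : Γ} (hx : x ∈ K) (hfix : ∀ a ∈ S, f a * f x = f x * f a) :
    ∃ c ∈ K, (∀ a ∈ S, a * c = c * a) ∧ f c = f x := by
  have hsol : Group.IsSolvable S :=
    haveI := h.solvA
    Group.isSolvable_of_isSolvable_injective (f := Subgroup.inclusion hS) (Subgroup.inclusion_injective _)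
  obtain ⟨c, hc, hcx⟩ := coprime_fixed_quotient (A := S) (K := K) (N := f.ker) (hS.trans h.inv)
    ((h.cop' le_rfl).coprime_dvd_left (Subgroup.card_dvd_of_le hS)) (Or.inl hsol) hker
    (by rw [Subgroup.normalizer_eq_top]; exact le_top) (by rw [Subgroup.normalizer_eq_top]; exact le_top) hx
    (fun a ha => by
      rw [MonoidHom.mem_ker, map_mul, map_mul, map_mul, map_inv, map_inv, hfix a ha]; group)
  refine ⟨c, hc.1, fun a ha => hc.2 a ha, ?_⟩
  rw [MonoidHom.mem_ker, map_mul, map_inv, inv_mul_eq_one] at hcx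
  exact hcx.symm

/-- The hypothesis passes to quotients. -/
theorem map {Γ' : Type v} [Group Γ'] [Finite Γ'] (f : Γ →* Γ') (hker : f.ker ≤ K) :
    Hyp (A.map f) (K.map f) q where
  prime := h.prime
  card := by
    rw [← h.card]
    refine (Nat.card_congr (Equiv.ofBijective (f.subgroupMap A) ⟨?_, f.subgroupMap_surjective A⟩)).symm
    intro a b hab
    have : f ((a : Γ) * (b : Γ)⁻¹) = 1 := by
      rw [map_mul, map_inv, mul_inv_eq_one]; exact congrArg Subtype.val hab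
    exact Subtype.ext (mul_inv_eq_one.1 (h.inj_on f hker (mul_mem a.2 (inv_mem b.2)) this))
  noncyc hc := by
    have hinj : Function.Injective (f.subgroupMap A) := fun a b hab => by
      have : f ((a : Γ) * (b : Γ)⁻¹) = 1 := by
        rw [map_mul, map_inv, mul_inv_eq_one]; exact congrArg Subtype.val hab
      exact Subtype.ext (mul_inv_eq_one.1 (h.inj_on f hker (mul_mem a.2 (inv_mem b.2)) this))
    exact h.noncyc (isCyclic_of_injective (f.subgroupMap A) hinj)
  inv := inv_map f h.inv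
  cop hd := h.cop (hd.trans (Subgroup.card_map_dvd _ _))
  abel := by
    rintro _ ⟨a, ha, rfl⟩ ha1 _ ⟨x, hx, rfl⟩ _ ⟨y, hy, rfl⟩ hax hay
    have hfix : ∀ z ∈ K, f a * f z = f z * f a → ∃ c ∈ K, a * c = c * a ∧ f c = f z := by
      intro z hz hz'
      obtain ⟨c, hc, hc1, hc2⟩ := h.lift_fixed f hker (zpowers_le.2 ha) hz (fun b hb => by
        obtain ⟨i, rfl⟩ := Subgroup.mem_zpowers_iff.1 hb
        rw [map_zpow]
        exact (Commute.zpow_left hz' i).eq)
      exact ⟨c, hc, hc1 a (mem_zpowers a), hc2⟩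
    obtain ⟨c, hc, hc1, hc2⟩ := hfix x hx hax
    obtain ⟨d, hd, hd1, hd2⟩ := hfix y hy hay
    rw [← hc2, ← hd2]
    exact (h.abel a ha (fun e => ha1 (by rw [e, map_one])) c hc d hd hc1 hd1).map f

theorem subgroupOf {T : Subgroup Γ} (hA : A ≤ T) (hK : K ≤ T) : Hyp (A.subgroupOf T) (K.subgroupOf T) q where
  prime := h.prime
  card := (Nat.card_congr (Subgroup.subgroupOfEquivOfLe hA).toEquiv).trans h.card
  noncyc hc := h.noncyc (isCyclic_of_surjective (Subgroup.subgroupOfEquivOfLe hA).toMonoidHom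
    (Subgroup.subgroupOfEquivOfLe hA).surjective)
  inv a ha := Subgroup.mem_normalizer_iff.2 fun x => Subgroup.mem_normalizer_iff.1 (h.inv ha) x
  cop hd := h.cop ((Nat.card_congr (Subgroup.subgroupOfEquivOfLe hK).toEquiv) ▸ hd)
  abel a ha ha1 x hx y hy hax hay :=
    Subtype.ext (h.abel a ha (fun e => ha1 (Subtype.ext e)) x hx y hy (congrArg Subtype.val hax)
      (congrArg Subtype.val hay)).eq

end Hyp

namespace HypF

variable [Finite Γ] {A K : Subgroup Γ} {q : ℕ} (h : HypF A K q)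
include h

theorem fix_two {c d : Γ} (hc : c ∈ A) (hd : d ∈ A) (hc1 : c ≠ 1) (hcd : d ∉ zpowers c) {x : Γ} (hx : x ∈ K)
    (h1 : c * x = x * c) (h2 : d * x = x * d) : x = 1 :=
  h.fix x hx (h.toHyp.fixed_two hc hd hc1 hcd h1 h2)

theorem mono {L : Subgroup Γ} (hL : L ≤ K) (hLi : Inv A L) : HypF A L q :=
  ⟨h.toHyp.mono hL hLi, fun x hx => h.fix x (hL hx)⟩

theorem map {Γ' : Type v} [Group Γ'] [Finite Γ'] (f : Γ →* Γ') (hker : f.ker ≤ K) :
    HypF (A.map f) (K.map f) q := by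
  refine ⟨h.toHyp.map f hker, ?_⟩
  rintro _ ⟨x, hx, rfl⟩ hall
  obtain ⟨c, hc, hc1, hc2⟩ := h.toHyp.lift_fixed f hker le_rfl hx
    (fun a ha => hall _ (Subgroup.mem_map_of_mem f ha))
  rw [← hc2, h.fix c hc hc1, map_one]

theorem subgroupOf {T : Subgroup Γ} (hA : A ≤ T) (hK : K ≤ T) : HypF (A.subgroupOf T) (K.subgroupOf T) q :=
  ⟨h.toHyp.subgroupOf hA hK, fun x hx hall =>
    Subtype.ext (h.fix x hx fun a ha => congrArg Subtype.val (hall ⟨a, hA ha⟩ ha))⟩

/-- The spanning lemma for an invariant subgroup `Z` fixed by `c`. -/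
theorem span_fixed {V Z Y : Subgroup Γ} {c d : Γ} {r : ℕ} [Fact r.Prime] (hc : c ∈ A) (hd : d ∈ A)
    (hc1 : c ≠ 1) (hcd : d ∉ zpowers c) (hVK : V ≤ K) (hV : IsPGroup r V) (hdV : d ∈ normalizer (V : Set Γ))
    (hZK : Z ≤ cz K c) (hZi : d ∈ normalizer (Z : Set Γ)) (hZV : Z ≤ normalizer (V : Set Γ))
    (hcop : (Nat.card Z).Coprime (Nat.card V))
    (hZY : Z ≤ normalizer (Y : Set Γ)) (hdY : d ∈ normalizer (Y : Set Γ))
    (hfix : ∀ v ∈ V, d * v = v * d → v ∈ Y) : ⁅V, Z⁆ ≤ Y := by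
  by_cases hV1 : V = ⊥
  · rw [hV1, Subgroup.commutator_bot_left]; exact bot_le
  have hqr : q ≠ r := by
    refine h.prime_ne Fact.out ?_
    have hrV : r ∣ Nat.card V := by
      obtain ⟨n, hn⟩ := hV.exists_card_eq
      rcases n.eq_zero_or_pos with rfl | hn0
      · exact absurd (Subgroup.card_eq_one.1 (by simpa using hn)) hV1
      · exact hn ▸ dvd_pow_self r hn0.ne'
    exact hrV.trans (Subgroup.card_dvd_of_le hVK)
  exact span h.prime (h.toHyp.pow_q hd) hqr hV hZV hdV hZi hcop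
    (fun z hz hdz => h.fix_two hc hd hc1 hcd (hZK hz).1 (mem_cz.1 (hZK hz)).2 hdz) hZY hdY hfix

/-- The automising line. -/
theorem centralize {P Z : Subgroup Γ} {c d : Γ} {r : ℕ} [Fact r.Prime] (hc : c ∈ A) (hd : d ∈ A)
    (hc1 : c ≠ 1) (hcd : d ∉ zpowers c) (hPK : P ≤ K) (hP : IsPGroup r P) (hdP : d ∈ normalizer (P : Set Γ))
    (hZK : Z ≤ cz K c) (hZi : d ∈ normalizer (Z : Set Γ)) (hZP : Z ≤ normalizer (P : Set Γ))
    (hcop : (Nat.card Z).Coprime (Nat.card P)) (hfix : cz P d = ⊥) : Z ≤ centralizer (P : Set Γ) := by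
  have h1 := h.span_fixed (Y := ⊥) hc hd hc1 hcd hPK hP hdP hZK hZi hZP hcop
    (by rw [Subgroup.normalizer_eq_top]; exact le_top) (by rw [Subgroup.normalizer_eq_top]; trivial)
    (fun v hv hdv => hfix ▸ mem_cz.2 ⟨hv, hdv⟩)
  exact Subgroup.le_centralizer_iff.1
    (Subgroup.commutator_eq_bot_iff_le_centralizer.1 (le_bot_iff.1 h1))

end HypF

end CfsgLib.CoprimeAbCent
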