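import Cfsg.Agent.Lib.CoprimeAbCent.MinCE

/-!
The lines on which the invariant Sylow subgroups have fixed points.
-/

set_option autoImplicit false
set_option linter.unusedSectionVars false
set_option linter.style.haveILetI false

namespace CfsgLib.CoprimeAbCent

open Subgroup Cfsg
open scoped commutatorElement IsMulCommutative

universe u
variable {Γ : Type u} [Group Γ] [Finite Γ] {A K : Subgroup Γ} {q : ℕ}

namespace HypF

variable (h : HypF A K q)
include h

/-- A fixed element of an invariant Sylow subgroup of a solvable group, split along `L' ⋅ N_L(P)`. -/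
theorem split (hsol : Group.IsSolvable K) {p r : ℕ} [Fact p.Prime] [Fact r.Prime] {P R : Subgroup Γ}
    (hP : Syl A K p P) (hR : Syl A K r R) {a x : Γ} (ha : a ∈ A) (ha1 : a ≠ 1) (hx : x ∈ cz R a) :
    ∃ y ∈ cz (R ⊓ ⁅K, K⁆) a, ∃ z ∈ cz (R ⊓ normalizer (P : Set Γ)) a, x = y * z := by
  set D := ⁅K, K⁆
  have hDK : D ≤ K := Subgroup.commutator_le_self K
  set N := K ⊓ normalizer (P : Set Γ)
  have hND : N ≤ normalizer (D : Set Γ) := fun g hg =>
    (Inv.commutator (Subgroup.le_normalizer : Inv K K) Subgroup.le_normalizer) hg.1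
  have hxK : x ∈ K := hR.le hx.1
  obtain ⟨w, hw, n, hn, hwn⟩ := CfsgLib.mem_sup_of_le_normalizer (A := N) (W := D) hND
    (h.frattini hsol hP hxK)
  obtain ⟨w', hw', n', hn', he⟩ := coprime_factorisation (A := zpowers a) (K := K) (X := D) (Y := N)
    (h.cop_zpowers le_rfl ha) (Or.inr hsol) hDK
    ((zpowers_le.2 ha).trans (h.inv.commutator h.inv)) ((zpowers_le.2 ha).trans (h.inv.inf hP.inv.normalizer))
    hw hn (fun b hb => by
      obtain ⟨i, rfl⟩ := Subgroup.mem_zpowers_iff.1 hb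
      rw [hwn]
      exact (Commute.zpow_left (mem_cz.1 hx).2 i).eq)
  rw [hwn] at he
  have hw'c : w' ∈ cz K a := mem_cz.2 ⟨hDK hw'.1, hw'.2 a (mem_zpowers a)⟩
  have hn'c : n' ∈ cz K a := mem_cz.2 ⟨hn'.1.1, hn'.2 a (mem_zpowers a)⟩
  have hcomm : Commute w' n' := h.abel a ha ha1 w' hw'c.1 n' hn'c.1 (mem_cz.1 hw'c).2 (mem_cz.1 hn'c).2
  -- take the `r`-parts
  set e := (Nat.card K).factorization r
  obtain ⟨k, hk1, hk0⟩ := Nat.chineseRemainder
    (Nat.Coprime.pow_left e ((Nat.coprime_ordCompl (n := Nat.card K) (Fact.out : r.Prime) Nat.card_pos.ne'))) 1 0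
  obtain ⟨t, ht⟩ := Nat.modEq_zero_iff_dvd.1 hk0
  have hpow : ∀ y ∈ K, (y ^ k) ^ r ^ e = 1 := by
    intro y hy
    rw [← pow_mul, show k * r ^ e = Nat.card K * t by
      rw [ht]; conv_rhs => rw [← Nat.ordProj_mul_ordCompl_eq_self (Nat.card K) r]
      ring]
    rw [pow_mul, show y ^ Nat.card K = 1 from congrArg Subtype.val (pow_card_eq_one' (x := (⟨y, hy⟩ : K))), one_pow]
  have hxk : x ^ k = x := by
    have hord : orderOf x ∣ r ^ e := by
      have := Subgroup.orderOf_dvd_natCard R hx.1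
      rwa [hR.card] at this
    conv_rhs => rw [← pow_one x]
    exact pow_eq_pow_iff_modEq.2 (hk1.of_dvd hord)
  refine ⟨w' ^ k, ⟨⟨hR.mem_of_fixed h ha ha1 (pow_mem hw'c k) ⟨e, hpow w' hw'c.1⟩, pow_mem hw'.1 k⟩,
      (pow_mem hw'c k).2⟩, n' ^ k,
    ⟨⟨hR.mem_of_fixed h ha ha1 (pow_mem hn'c k) ⟨e, hpow n' hn'c.1⟩, pow_mem hn'.1.2 k⟩, (pow_mem hn'c k).2⟩, ?_⟩
  rw [← hcomm.mul_pow, ← he, hxk]

/-- An operator off the line centralises. -/
theorem off {p r : ℕ} [Fact p.Prime] [Fact r.Prime] (hrp : r ≠ p) {P Z : Subgroup Γ} {e d : Γ}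
    (hPK : P ≤ K) (hP : IsPGroup p P) (hPA : Inv A P) (he : e ∈ A) (he1 : e ≠ 1) (hd : d ∈ A)
    (hde : d ∉ zpowers e) (hPe : cz P e = ⊥) (hZ : Z ≤ cz K d) (hZr : IsPGroup r Z) (hZA : Inv A Z)
    (hZP : Z ≤ normalizer (P : Set Γ)) : Z ≤ centralizer (P : Set Γ) := by
  obtain ⟨hd1, hed⟩ := h.not_mem_symm he hd he1 hde
  exact h.centralize hd he hd1 hed hPK hP (hPA he) hZ (hZA he) hZP
    (IsPGroup.coprime_card_of_ne r p hrp _ _ hZr hP) hPe

/-- An acting subgroup forces fixed points off one line. -/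
theorem lines {p r : ℕ} [Fact p.Prime] [Fact r.Prime] (hrp : r ≠ p) {P R : Subgroup Γ}
    (hP : Syl A K p P) (hR : Syl A K r R)
    (hact : ¬ R ⊓ normalizer (P : Set Γ) ≤ centralizer (P : Set Γ)) :
    ∀ e ∈ A, e ≠ 1 → cz P e = ⊥ → ∀ d ∈ A, d ∉ zpowers e → cz P d ≠ ⊥ := by
  intro e he he1 hPe d hd hde hPd
  refine hact (h.gen (inf_le_left.trans hR.le) (hR.inv.inf hP.inv.normalizer) fun c hc hc1 => ?_)
  have hZK : cz (R ⊓ normalizer (P : Set Γ)) c ≤ cz K c := inf_le_inf_right _ (inf_le_left.trans hR.le)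
  have hZr : IsPGroup r ↥(cz (R ⊓ normalizer (P : Set Γ)) c) := hR.pgrp.to_le (inf_le_left.trans inf_le_left)
  have hZA : Inv A (cz (R ⊓ normalizer (P : Set Γ)) c) := h.inv_cz (hR.inv.inf hP.inv.normalizer) hc
  have hZP : cz (R ⊓ normalizer (P : Set Γ)) c ≤ normalizer (P : Set Γ) := inf_le_left.trans inf_le_right
  by_cases hce : c ∈ zpowers e
  · refine h.off hrp hP.le hP.pgrp hP.inv hd (fun e' => hde (e' ▸ one_mem _)) hc ?_ hPd hZK hZr hZA hZP
    intro hcd
    have h1 : zpowers c = zpowers e := Subgroup.eq_of_le_of_card_ge (zpowers_le.2 hce)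
      (by rw [h.card_zpowers hc hc1, h.card_zpowers he he1])
    have h2 : zpowers c = zpowers d := Subgroup.eq_of_le_of_card_ge (zpowers_le.2 hcd)
      (by rw [h.card_zpowers hc hc1, h.card_zpowers hd fun e' => hde (e' ▸ one_mem _)])
    exact hde (h1 ▸ h2 ▸ mem_zpowers d)
  · exact h.off hrp hP.le hP.pgrp hP.inv he he1 hc hce hPe hZK hZr hZA hZP

end HypF

namespace MinCE

variable (h : MinCE A K q)
include h

/-- Burnside's transfer theorem. -/
theorem exists_actor {p : ℕ} [Fact p.Prime] (hp : p ∣ Nat.card K) {P : Subgroup Γ} (hP : Syl A K p P)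
    (hab : ∀ x ∈ P, ∀ y ∈ P, Commute x y) :
    ∃ (r : ℕ) (_ : Fact r.Prime) (R : Subgroup Γ), r ≠ p ∧ Syl A K r R ∧
      ¬ R ⊓ normalizer (P : Set Γ) ≤ centralizer (P : Set Γ) := by
  by_contra hall
  push Not at hall
  have hN : K ⊓ normalizer (P : Set Γ) ≤ centralizer (P : Set Γ) := by
    refine h.toHypF.le_of_sylow inf_le_left (h.inv.inf hP.inv.normalizer) fun r hr R hR => ?_
    by_cases hrp : r = p
    · subst hrp
      rw [hR.unique hP]
      exact fun x hx y hy => (hab x hx.1 y hy).eq.symm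
    · exact (inf_le_inf_left _ inf_le_right).trans (hall r hr R hrp hR)
  let S : Sylow p K := Sylow.ofCard (P.subgroupOf K)
    ((Nat.card_congr (Subgroup.subgroupOfEquivOfLe hP.le).toEquiv).trans hP.card)
  refine h.no_npc hp (hasNormalPComplement_of_normalizer_le_centralizer S fun g hg s hs => ?_)
  have hg' : (g : Γ) ∈ normalizer (P : Set Γ) := by
    have := Subgroup.le_normalizer_map K.subtype (Subgroup.mem_map_of_mem K.subtype hg)
    rwa [show (S : Subgroup K) = P.subgroupOf K from rfl, Subgroup.map_subgroupOf_eq_of_le hP.le] at this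
  exact Subtype.ext (hN ⟨g.2, hg'⟩ (s : Γ) hs)

/-- No invariant Sylow subgroup lies on one line. -/
theorem not_le_line {r : ℕ} [Fact r.Prime] (hr : r ∣ Nat.card K) {R : Subgroup Γ} (hR : Syl A K r R) {e : Γ}
    (he : e ∈ A) (he1 : e ≠ 1) : ¬ R ≤ cz K e := by
  intro hle
  obtain ⟨s, hs, S, hsr, hS, hact⟩ := h.exists_actor hr hR fun x hx y hy =>
    h.abel e he he1 x (hR.le hx) y (hR.le hy) (mem_cz.1 (hle hx)).2 (mem_cz.1 (hle hy)).2
  have hbot : ∀ d ∈ A, d ∉ zpowers e → cz R d = ⊥ := by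
    intro d hd hde
    rw [Subgroup.eq_bot_iff_forall]
    exact fun x hx => h.fix_two he hd he1 hde (hR.le hx.1) (mem_cz.1 (hle hx.1)).2 (mem_cz.1 hx).2
  obtain ⟨d, hd, hde⟩ := h.toHyp.exists_not_mem e he
  have hde' : d * e ∉ zpowers e := fun hm => hde (by simpa using mul_mem hm (inv_mem (mem_zpowers e)))
  obtain ⟨hd1, hed⟩ := h.toHyp.not_mem_symm he hd he1 hde
  have hded : d * e ∉ zpowers d := fun hm => hed (by
    have := mul_mem (inv_mem (mem_zpowers d)) hm
    simpa using this)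
  exact h.toHypF.lines hsr hR hS hact d hd hd1 (hbot d hd hde) (d * e) (mul_mem hd he) hded
    (hbot _ (mul_mem hd he) hde')

end MinCE

end CfsgLib.CoprimeAbCent
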