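import Cfsg.Agent.Lib.CoprimeAbCent.Lines
import Cfsg.Agent.Lib.ZJ.Complement
import Cfsg.Agent.Lib.Elementary

/-!
An invariant Sylow subgroup of odd order is abelian.
-/

set_option autoImplicit false
set_option linter.unusedSectionVars false
set_option linter.style.haveILetI false

namespace CfsgLib.CoprimeAbCent

open Subgroup Cfsg
open scoped commutatorElement IsMulCommutative

universe u
variable {Γ : Type u} [Group Γ] [Finite Γ] {A K : Subgroup Γ} {q : ℕ}

theorem relIndex_coprime {p : ℕ} [Fact p.Prime] {U H : Subgroup Γ} (hU : Syl A H p U) :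
    ¬ p ∣ U.relIndex H := by
  intro hd
  have h1 : Nat.card U * U.relIndex H = Nat.card H := by
    have := Subgroup.card_mul_index (U.subgroupOf H)
    rwa [Nat.card_congr (Subgroup.subgroupOfEquivOfLe hU.le).toEquiv] at this
  rw [hU.card] at h1
  exact Nat.pow_succ_factorization_not_dvd Nat.card_pos.ne' (Fact.out : p.Prime)
    (h1 ▸ pow_succ p _ ▸ mul_dvd_mul_left _ hd)

/-- A normal Sylow subgroup centralised by all others has a normal complement. -/
theorem exists_compl (h : HypF A K q) {p : ℕ} [Fact p.Prime] {H P₀ : Subgroup Γ} (hH : H ≤ K) (hHi : Inv A H)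
    (hP₀ : Syl A H p P₀) (hn : Inv H P₀)
    (hc : ∀ (r : ℕ) (_ : Fact r.Prime) (R : Subgroup Γ), r ≠ p → Syl A H r R → R ≤ centralizer (P₀ : Set Γ)) :
    ∃ X ≤ H, ¬ p ∣ Nat.card X ∧ Inv H X ∧ H ≤ P₀ ⊔ X ∧ ∀ x ∈ H, (orderOf x).Coprime p → x ∈ X := by
  set C := H ⊓ centralizer (P₀ : Set Γ)
  have hCn : Inv H C := Inv.inf Subgroup.le_normalizer hn.centralizer
  haveI : (C.subgroupOf H).Normal := (Subgroup.normal_subgroupOf_iff_le_normalizer inf_le_left).2 hCn
  haveI : (P₀.subgroupOf H).Normal := (Subgroup.normal_subgroupOf_iff_le_normalizer hP₀.le).2 hn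
  have hC : ∀ x ∈ H, (orderOf x).Coprime p → x ∈ C := by
    intro x hx hxp
    refine mem_of_coprime_index hx (Nat.coprime_of_dvd fun s hs h1 h2 => ?_)
    haveI := Fact.mk hs
    have hsp : s ≠ p := fun e => (Fact.out : p.Prime).coprime_iff_not_dvd.1 hxp.symm (e ▸ h1)
    obtain ⟨R, hR⟩ := (h.mono hH hHi).exists_syl s
    exact relIndex_coprime hR (h2.trans (Subgroup.relIndex_dvd_of_le_left H (le_inf hR.le (hc s ⟨hs⟩ R hsp hR))))
  have hcop : (Nat.card (P₀.subgroupOf H)).Coprime (P₀.subgroupOf H).index := by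
    rw [Nat.card_congr (Subgroup.subgroupOfEquivOfLe hP₀.le).toEquiv, hP₀.card]
    exact Nat.Coprime.pow_left _ ((Fact.out : p.Prime).coprime_iff_not_dvd.2 (relIndex_coprime hP₀))
  obtain ⟨X', hX'⟩ := Subgroup.exists_right_complement'_of_coprime hcop
  have hcardX : Nat.card (X'.map H.subtype) = P₀.relIndex H := by
    rw [Subgroup.card_map_of_injective H.subtype_injective]
    exact hX'.symm.index_eq_card.symm
  set X := X'.map H.subtype
  have hXH : X ≤ H := Subgroup.map_subtype_le _
  have hpX : ¬ p ∣ Nat.card X := hcardX ▸ relIndex_coprime hP₀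
  have hXC : X ≤ C := fun x hx => hC x (hXH hx)
    (((Fact.out : p.Prime).coprime_iff_not_dvd.2 hpX).symm.coprime_dvd_left (Subgroup.orderOf_dvd_natCard X hx))
  have hsup : H ≤ P₀ ⊔ X := by
    intro x hx
    have hm : (⟨x, hx⟩ : H) ∈ P₀.subgroupOf H ⊔ X' := hX'.sup_eq_top ▸ Subgroup.mem_top _
    have := Subgroup.mem_map_of_mem H.subtype hm
    rwa [Subgroup.map_sup, Subgroup.map_subgroupOf_eq_of_le hP₀.le] at this
  have hXn : Inv H X := hsup.trans (sup_le (inv_of_cent (Subgroup.le_centralizer_iff.1 (hXC.trans inf_le_right)))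
    Subgroup.le_normalizer)
  haveI : (X.subgroupOf H).Normal := (Subgroup.normal_subgroupOf_iff_le_normalizer hXH).2 hXn
  refine ⟨X, hXH, hpX, hXn, hsup, fun x hx hxp => mem_of_coprime_index hx ?_⟩
  have hidx : (X.subgroupOf H).index = Nat.card P₀ := by
    rw [show X.subgroupOf H = X' from Subgroup.comap_map_eq_self_of_injective H.subtype_injective X',
      hX'.index_eq_card, Nat.card_congr (Subgroup.subgroupOfEquivOfLe hP₀.le).toEquiv]
  rw [hidx, hP₀.card]
  exact hxp.pow_right _

namespace MinCE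

variable (h : MinCE A K q)
include h

/-- The invariant Sylow subgroups for odd primes are abelian. -/
theorem abelian_of_odd {p : ℕ} [Fact p.Prime] (hp2 : p ≠ 2) {P : Subgroup Γ} (hP : Syl A K p P) :
    ∀ x ∈ P, ∀ y ∈ P, Commute x y := by
  classical
  by_contra hnab
  set P₁ := ⁅P, P⁆
  have hP₁ : P₁ ≠ ⊥ := fun e => hnab fun x hx y hy =>
    commutatorElement_eq_one_iff_commute.1 (Subgroup.mem_bot.1 (e ▸ Subgroup.commutator_mem_commutator hx hy))
  have hP₁P : P₁ ≤ P := Subgroup.commutator_le_self P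
  have hP0 : P ≠ ⊥ := fun e => hP₁ (le_bot_iff.1 (e ▸ hP₁P))
  have hp : p ∣ Nat.card K := by
    by_contra hn; exact hP0 ((hP.eq_bot_iff').2 hn)
  have hP₁A : Inv A P₁ := hP.inv.commutator hP.inv
  have hPP₁ : normalizer (P : Set Γ) ≤ normalizer (P₁ : Set Γ) := Inv.commutator le_rfl le_rfl
  have hPne : ∀ U ≤ P, U ≠ K := fun U hU => h.not_solv (solvable_of_pgroup (hP.pgrp.to_le hU))
  set M := K ⊓ normalizer (P₁ : Set Γ)
  have hMi : Inv A M := h.inv.inf hP₁A.normalizer
  have hMK : M ≠ K := h.normalizer_ne (hP₁P.trans hP.le) hP₁A hP₁ (hPne _ hP₁P)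
  have hPM : P ≤ M := le_inf hP.le (Subgroup.le_normalizer.trans hPP₁)
  -- every proper invariant subgroup above `P` lies in `M`
  have huniq : ∀ L ≤ K, L ≠ K → Inv A L → P ≤ L → L ≤ M := by
    intro L hL hLne hLi hPL
    have hL' := h.toHypF.mono hL hLi
    have hsol := h.proper L hL hLne hLi
    have hP' : Syl A L p P := inf_eq_left.2 hPL ▸ hP.inf h.toHypF hL hLi
    have hP₁D : P₁ ≤ P ⊓ ⁅L, L⁆ := le_inf hP₁P (Subgroup.commutator_mono hPL hPL)
    have hD : ⁅L, L⁆ ≤ normalizer (P₁ : Set Γ) := by
      refine hL'.le_of_sylow (Subgroup.commutator_le_self L) (hLi.commutator hLi) fun r hr R hR => ?_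
      by_cases hrp : r = p
      · subst hrp
        rw [hR.unique hP']
        exact inf_le_left.trans (Subgroup.le_normalizer.trans hPP₁)
      · exact inv_of_cent ((hL'.derived_syl_commute hsol hrp hR hP').trans (Subgroup.centralizer_le hP₁D))
    exact le_inf hL ((hL'.frattini hsol hP').trans (sup_le hD (inf_le_right.trans hPP₁)))
  set Z := P₁ ⊓ centralizer (P : Set Γ)
  have hZ0 : Z ≠ ⊥ := by
    haveI : Group.IsNilpotent P := hP.pgrp.isNilpotent
    haveI : (P₁.subgroupOf P).Normal :=
      (Subgroup.normal_subgroupOf_iff_le_normalizer hP₁P).2 (Subgroup.le_normalizer.trans hPP₁)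
    have hne : P₁.subgroupOf P ≠ ⊥ := fun e => hP₁ (by
      rw [← Subgroup.map_subgroupOf_eq_of_le hP₁P, e, Subgroup.map_bot])
    intro e
    refine CfsgLib.inf_center_ne_bot_of_nilpotent hne (Subgroup.eq_bot_iff_forall _ |>.2 fun x hx => ?_)
    have : (x : Γ) ∈ Z := ⟨hx.1, fun y hy => congrArg Subtype.val (Subgroup.mem_center_iff.1 hx.2 ⟨y, hy⟩)⟩
    rw [e, Subgroup.mem_bot] at this
    exact Subtype.ext this
  have hZP : Z ≤ P := inf_le_left.trans hP₁P
  have hZK : Z ≤ K := hZP.trans hP.le
  have hZA : Inv A Z := hP₁A.inf hP.inv.centralizer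
  have hCZ : K ⊓ centralizer (Z : Set Γ) ≤ M :=
    huniq _ inf_le_left (h.centralizer_ne hZK hZA hZ0) (h.inv.inf hZA.centralizer)
      (le_inf hP.le (Subgroup.le_centralizer_iff.1 inf_le_right))
  -- `Z` centralises the coprime nilpotent subgroups it normalises
  have hcent : ∀ (r : ℕ) (_ : Fact r.Prime), r ≠ p → ∀ U ≤ K, Inv A U → IsPGroup r U → Z ≤ normalizer (U : Set Γ) →
      U ≤ centralizer (Z : Set Γ) := by
    intro r hr hrp U hU hUA hUr hZU
    refine Subgroup.le_centralizer_iff.1 (h.toHyp.gen hZK hZA fun c hc hc1 => ?_)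
    set Zc := cz Z c
    have hZcK : Zc ≤ cz K c := inf_le_inf_right _ hZK
    have hZcA : Inv A Zc := h.toHyp.inv_cz hZA hc
    have hZcU : Zc ≤ normalizer (U : Set Γ) := inf_le_left.trans hZU
    set E := ⁅U, Zc⁆
    have hEU : E ≤ U := commutator_le_of_le_normalizer hZcU
    have hcopZ : (Nat.card Zc).Coprime (Nat.card U) :=
      IsPGroup.coprime_card_of_ne p r hrp.symm _ _ (hP.pgrp.to_le (inf_le_left.trans hZP)) hUr
    have hEA : Inv A E := hUA.commutator hZcA
    set D := ⁅P, zpowers c⁆
    have hDP : D ≤ P := commutator_le_of_le_normalizer ((zpowers_le.2 hc).trans hP.inv)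
    have hED : D ≤ centralizer (E : Set Γ) := by
      refine h.toHypF.commutator_line_le hc hc1 hP.le hP.inv hP.pgrp fun d hd hdc x hx => ?_
      have hd1 : d ≠ 1 := fun e => hdc (e ▸ one_mem _)
      have hdx : d ∈ centralizer ({x} : Set Γ) := Subgroup.mem_centralizer_singleton_iff.2 (mem_cz.1 hx).2
      have hZx : Zc ≤ centralizer ({x} : Set Γ) := fun z hz =>
        Subgroup.mem_centralizer_singleton_iff.2 (hz.1.2 x hx.1).symm
      have h1 : E ≤ centralizer ({x} : Set Γ) :=
        h.span_fixed hc hd hc1 hdc hU hUr (hUA hd) hZcK (hZcA hd) hZcU hcopZ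
          (hZx.trans Subgroup.le_normalizer) (Subgroup.le_normalizer hdx) fun v hv hdv =>
            Subgroup.mem_centralizer_singleton_iff.2
              (h.abel d hd hd1 v (hU hv) x (hP.le hx.1) hdv (mem_cz.1 hx).2).eq
      exact fun y hy => Subgroup.mem_centralizer_singleton_iff.1 (h1 hy)
    have hD0 : D ≠ ⊥ := by
      intro e
      refine hnab fun x hx y hy => ?_
      have hfix : ∀ w ∈ P, c * w = w * c := fun w hw => by
        have : ⁅w, c⁆ ∈ D := Subgroup.commutator_mem_commutator hw (mem_zpowers c)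
        rw [e, Subgroup.mem_bot, commutatorElement_eq_one_iff_mul_comm] at this
        exact this.symm
      exact h.abel c hc hc1 x (hP.le hx) y (hP.le hy) (hfix x hx) (hfix y hy)
    have hDA : Inv A D := hP.inv.commutator (inv_of_le fun g hg x hx => by
      rw [h.toHyp.comm hg (zpowers_le.2 hc hx), mul_inv_cancel_right]; exact hx)
    have hND : K ⊓ normalizer (D : Set Γ) ≤ M := huniq _ inf_le_left
      (h.normalizer_ne (hDP.trans hP.le) hDA hD0 (hPne _ hDP)) (h.inv.inf hDA.normalizer)
      (le_inf hP.le (left_le_normalizer_commutator _ _))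
    have hEM : E ≤ M := (le_inf (hEU.trans hU) (inv_of_cent (Subgroup.le_centralizer_iff.1 hED))).trans hND
    have hEE : ⁅E, Zc⁆ = E := coprime_commutator_commutator hZcU hcopZ (Or.inr (solvable_of_pgroup hUr))
    have hle : E ≤ P₁ := by
      rw [← hEE]
      refine (Subgroup.commutator_mono le_rfl (inf_le_left.trans inf_le_left : Zc ≤ P₁)).trans ?_
      rw [Subgroup.commutator_comm]
      exact commutator_le_of_le_normalizer (hEM.trans inf_le_right)
    have hbot : E = ⊥ := le_bot_iff.1
      ((le_inf hEU (hle.trans hP₁P)).trans (IsPGroup.disjoint_of_ne r p hrp U P hUr hP.pgrp).le_bot)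
    exact Subgroup.le_centralizer_iff.1 (Subgroup.commutator_eq_bot_iff_le_centralizer.1 hbot)
  -- every proper invariant subgroup above `Z` lies in `M`
  have hmain : ∀ (n : ℕ) (L : Subgroup Γ), Nat.card P - Nat.card (P ⊓ L : Subgroup Γ) = n → L ≤ K → L ≠ K →
      Inv A L → Z ≤ L → L ≤ M := by
    intro n
    induction n using Nat.strong_induction_on with
    | _ n ih =>
      intro L hn hL hLne hLi hZL
      by_cases hPL : P ≤ L
      · exact huniq L hL hLne hLi hPL
      have hL' := h.toHypF.mono hL hLi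
      have hsol := h.proper L hL hLne hLi
      set S := P ⊓ L
      have hS : Syl A L p S := hP.inf h.toHypF hL hLi
      have hSlt : S < P := lt_of_le_of_ne inf_le_left fun e => hPL (e ▸ inf_le_right)
      have hD : ⁅L, L⁆ ≤ M := by
        refine hL'.le_of_sylow (Subgroup.commutator_le_self L) (hLi.commutator hLi) fun r hr R hR => ?_
        by_cases hrp : r = p
        · subst hrp
          rw [hR.unique hS]
          exact inf_le_left.trans (inf_le_left.trans hPM)
        · refine le_trans (le_inf (inf_le_left.trans (hR.le.trans hL)) ?_) hCZ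
          exact hcent r hr hrp _ (inf_le_left.trans (hR.le.trans hL)) (hR.inv.inf (hLi.commutator hLi))
            (hR.pgrp.to_le inf_le_left) (hZL.trans (hL'.derived_syl_inv hsol hR))
      have hS0 : S ≠ ⊥ := fun e => hZ0 (le_bot_iff.1 ((le_inf hZP hZL).trans e.le))
      have hSA : Inv A S := hP.inv.inf hLi
      set J := K ⊓ normalizer (S : Set Γ)
      have hJi : Inv A J := h.inv.inf hSA.normalizer
      have hJne : J ≠ K := h.normalizer_ne (inf_le_left.trans hP.le) hSA hS0 (hPne _ inf_le_left)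
      have hZS : Z ≤ S := le_inf hZP hZL
      have hZJ : Z ≤ J := le_inf hZK (hZS.trans Subgroup.le_normalizer)
      have hlt : Nat.card S < Nat.card (P ⊓ J : Subgroup Γ) := by
        haveI : Group.IsNilpotent P := hP.pgrp.isNilpotent
        have h1 : S.subgroupOf P < ⊤ := lt_top_iff_ne_top.2 fun e => hSlt.not_ge (Subgroup.subgroupOf_eq_top.1 e)
        obtain ⟨x, hx, hxS⟩ := SetLike.exists_of_lt (Group.normalizerCondition_of_isNilpotent _ h1)
        have hxJ : (x : Γ) ∈ P ⊓ J := by
          refine ⟨x.2, hP.le x.2, ?_⟩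
          have := Subgroup.le_normalizer_map P.subtype (Subgroup.mem_map_of_mem P.subtype hx)
          rwa [Subgroup.map_subgroupOf_eq_of_le hSlt.le] at this
        have hSJ : S ≤ P ⊓ J := le_inf hSlt.le (le_inf (hSlt.le.trans hP.le) Subgroup.le_normalizer)
        refine lt_of_le_of_ne (Nat.le_of_dvd Nat.card_pos (Subgroup.card_dvd_of_le hSJ)) fun e => hxS ?_
        exact (Subgroup.eq_of_le_of_card_ge hSJ e.ge).ge hxJ
      have hle : Nat.card (P ⊓ J : Subgroup Γ) ≤ Nat.card P :=
        Nat.le_of_dvd Nat.card_pos (Subgroup.card_dvd_of_le inf_le_left)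
      have hJM : J ≤ M := ih _ (by omega) J rfl inf_le_left hJne hJi hZJ
      refine (hL'.frattini hsol hS).trans (sup_le hD (le_trans ?_ hJM))
      exact inf_le_inf_right _ hL
  -- fixed points on the lines of `P`
  have hCB : ∀ a ∈ A, a ≠ 1 → cz P a ≠ ⊥ → cz K a ≤ M := by
    intro a ha ha1 hPa
    have hQA : Inv A (cz P a) := h.toHyp.inv_cz hP.inv ha
    have hQK : cz P a ≤ K := inf_le_left.trans hP.le
    refine le_trans ?_ (hmain _ (K ⊓ centralizer (cz P a : Set Γ)) rfl inf_le_left
      (h.centralizer_ne hQK hQA hPa) (h.inv.inf hQA.centralizer)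
      (le_inf hZK (inf_le_right.trans (Subgroup.centralizer_le inf_le_left))))
    intro x hx
    exact ⟨hx.1, fun y hy => (h.abel a ha ha1 y (hQK hy) x hx.1 (mem_cz.1 hy).2 (mem_cz.1 hx).2).eq⟩
  -- some `p'`-subgroup acts on `P`
  obtain ⟨r₀, hr₀, R₀, hr₀p, hR₀, hact⟩ : ∃ (r : ℕ) (_ : Fact r.Prime) (R : Subgroup Γ),
      r ≠ p ∧ Syl A K r R ∧ ¬ R ⊓ normalizer (P : Set Γ) ≤ centralizer (P : Set Γ) := by
    by_contra hall
    push Not at hall
    have hM' := h.toHypF.mono (show M ≤ K from inf_le_left) hMi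
    have hsolM := h.proper M inf_le_left hMK hMi
    have hPM' : Syl A M p P := inf_eq_left.2 hPM ▸ hP.inf h.toHypF (L := M) inf_le_left hMi
    set D := ⁅M, M⁆
    have hDM : D ≤ M := Subgroup.commutator_le_self M
    have hDi : Inv A D := hMi.commutator hMi
    obtain ⟨X₁, hX₁D, hpX₁, -, hX₁sup, hX₁mem⟩ := exists_compl h.toHypF (hDM.trans inf_le_left) hDi
      (hPM'.inf hM' hDM hDi) (hDM.trans (hM'.derived_syl_inv hsolM hPM')) fun r hr R hrp hR => by
        obtain ⟨R', hR'⟩ := hM'.exists_syl r
        rw [hR.unique (hR'.inf hM' hDM hDi)]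
        exact hM'.derived_syl_commute hsolM hrp hR' hPM'
    set N := M ⊓ normalizer (P : Set Γ)
    have hNi : Inv A N := hMi.inf hP.inv.normalizer
    have hPN : P ≤ N := le_inf hPM Subgroup.le_normalizer
    have hPN' : Syl A N p P := inf_eq_left.2 hPN ▸ hPM'.inf hM' (L := N) inf_le_left hNi
    obtain ⟨X₂, hX₂N, hpX₂, hX₂n, hX₂sup, -⟩ := exists_compl h.toHypF (inf_le_left.trans inf_le_left) hNi
      hPN' inf_le_right fun r hr R hrp hR => by
        obtain ⟨R', hR'⟩ := h.toHypF.exists_syl r
        have hle : R ≤ R' := hR'.max R (hR.le.trans (inf_le_left.trans inf_le_left)) hR.inv hR.pgrp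
        exact (le_inf hle (hR.le.trans inf_le_right)).trans (hall r hr R' hrp hR')
    have hX₁n : Inv M X₁ := inv_of_le fun g hg x hx => by
      have hgx : g * x * g⁻¹ ∈ D :=
        (Inv.commutator (Subgroup.le_normalizer : Inv M M) Subgroup.le_normalizer).conj_mem hg (hX₁D hx)
      refine hX₁mem _ hgx ?_
      rw [show orderOf (g * x * g⁻¹) = orderOf x from (MulAut.conj g).orderOf_eq x]
      exact ((Fact.out : p.Prime).coprime_iff_not_dvd.2 hpX₁).symm.coprime_dvd_left
        (Subgroup.orderOf_dvd_natCard X₁ hx)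
    set Y := X₁ ⊔ X₂
    have hYM : Y ≤ M := sup_le (hX₁D.trans hDM) (hX₂N.trans inf_le_left)
    have hNY : Inv N Y := Inv.sup ((inf_le_left : N ≤ M).trans hX₁n) hX₂n
    have hDY : Inv D Y := hX₁sup.trans (sup_le ((inf_le_left.trans hPN).trans hNY)
      ((le_sup_left : X₁ ≤ Y).trans Subgroup.le_normalizer))
    have hfr := hM'.frattini hsolM hPM'
    have hYn : Inv M Y := hfr.trans (sup_le hDY hNY)
    have hpY : ¬ p ∣ Nat.card Y := by
      intro hd
      obtain ⟨y, hy⟩ := exists_prime_orderOf_dvd_card' p hd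
      have hX₂X₁ : X₂ ≤ normalizer (X₁ : Set Γ) := (hX₂N.trans inf_le_left).trans hX₁n
      haveI : (X₁.subgroupOf Y).Normal := (Subgroup.normal_subgroupOf_iff_le_normalizer le_sup_left).2
        (sup_le Subgroup.le_normalizer hX₂X₁)
      have hidx : (X₁.subgroupOf Y).index ∣ Nat.card X₂ := by
        have h1 : X₁.relIndex Y = (X₁.subgroupOf Y).relIndex (X₂.subgroupOf Y) := by
          have htop : X₁.subgroupOf Y ⊔ X₂.subgroupOf Y = ⊤ := by
            apply Subgroup.map_injective Y.subtype_injective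
            rw [Subgroup.map_sup, Subgroup.map_subgroupOf_eq_of_le le_sup_left,
              Subgroup.map_subgroupOf_eq_of_le le_sup_right, ← MonoidHom.range_eq_map, Subgroup.range_subtype]
          have e := Subgroup.relIndex_sup_right (K := X₁.subgroupOf Y) (H := X₂.subgroupOf Y)
          rw [sup_comm, htop, Subgroup.relIndex_top_right] at e
          exact e
        show X₁.relIndex Y ∣ Nat.card X₂
        rw [h1, ← Nat.card_congr (Subgroup.subgroupOfEquivOfLe (le_sup_right : X₂ ≤ Y)).toEquiv]
        exact Subgroup.index_dvd_card _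
      have hy1 : (y : Γ) ∈ X₁ := mem_of_coprime_index y.2 (by
        rw [Subgroup.orderOf_coe, hy]
        exact ((Fact.out : p.Prime).coprime_iff_not_dvd.2 hpX₂).coprime_dvd_right hidx)
      have := Subgroup.orderOf_dvd_natCard X₁ hy1
      rw [Subgroup.orderOf_coe, hy] at this
      exact hpX₁ this
    have hMsup : M ≤ Y ⊔ P := hfr.trans (sup_le
      (hX₁sup.trans (sup_le (inf_le_left.trans le_sup_right) (le_sup_left.trans le_sup_left)))
      (hX₂sup.trans (sup_le le_sup_right (le_sup_right.trans le_sup_left))))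
    haveI : (Y.subgroupOf M).Normal := (Subgroup.normal_subgroupOf_iff_le_normalizer hYM).2 hYn
    let S : Sylow p M := Sylow.ofCard (P.subgroupOf M)
      ((Nat.card_congr (Subgroup.subgroupOfEquivOfLe hPM).toEquiv).trans hPM'.card)
    have hnpcM : HasNormalPComplement p M := by
      refine ⟨S, Y.subgroupOf M, inferInstance, Subgroup.isComplement'_of_disjoint_and_mul_eq_univ ?_ ?_⟩
      · refine Subgroup.disjoint_of_coprime_natCard ?_
        rw [show (S : Subgroup M) = P.subgroupOf M from rfl,
          Nat.card_congr (Subgroup.subgroupOfEquivOfLe hPM).toEquiv,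
          Nat.card_congr (Subgroup.subgroupOfEquivOfLe hYM).toEquiv, hP.card]
        exact Nat.Coprime.pow_right _ ((Fact.out : p.Prime).coprime_iff_not_dvd.2 hpY).symm
      · rw [← Subgroup.normal_mul, show (S : Subgroup M) = P.subgroupOf M from rfl]
        have htop : Y.subgroupOf M ⊔ P.subgroupOf M = ⊤ := by
          apply Subgroup.map_injective M.subtype_injective
          rw [Subgroup.map_sup, Subgroup.map_subgroupOf_eq_of_le hYM, Subgroup.map_subgroupOf_eq_of_le hPM,
            ← MonoidHom.range_eq_map, Subgroup.range_subtype]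
          exact le_antisymm (sup_le hYM hPM) hMsup
        rw [htop, Subgroup.coe_top]
    set J := ZJ.zj 0 P
    have hJP : J ≤ P := ZJ.zj_le 0 P
    have hconj : ∀ (g : Γ), g ∈ normalizer (P : Set Γ) → g ∈ normalizer (J : Set Γ) := by
      intro g hg
      rw [Subgroup.mem_normalizer_iff_map_conj_eq]
      have := ZJ.zj_map 0 (f := (MulAut.conj g).toMonoidHom) (MulAut.conj g).injective P
      rw [show P.map (MulAut.conj g).toMonoidHom = P from Subgroup.mem_normalizer_iff_map_conj_eq.1 hg] at this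
      exact this.symm
    have hJA : Inv A J := fun a ha => hconj a (hP.inv ha)
    have hJ0 : J ≠ ⊥ := ZJ.zj_ne_bot (Or.inl rfl) hP.pgrp hP0
    have hN₀ : K ⊓ normalizer (J : Set Γ) ≤ M := huniq _ inf_le_left
      (h.normalizer_ne (hJP.trans hP.le) hJA hJ0 (hPne _ hJP)) (h.inv.inf hJA.normalizer)
      (le_inf hP.le fun x hx => hconj x (Subgroup.le_normalizer hx))
    let SK : Sylow p K := Sylow.ofCard (P.subgroupOf K)
      ((Nat.card_congr (Subgroup.subgroupOfEquivOfLe hP.le).toEquiv).trans hP.card)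
    refine h.no_npc hp (ZJ.hasNormalPComplement_of_normalizer_zj hp2 (e := 0) (Or.inl rfl) SK ?_)
    refine ZJ.hasNormalPComplement_of_isPGroup_map K.subtype_injective (ZJ.hasNormalPComplement_of_le ?_ hnpcM)
    refine le_trans (le_inf (Subgroup.map_subtype_le _) ?_) hN₀
    refine (Subgroup.le_normalizer_map K.subtype).trans ?_
    rw [← ZJ.zj_map 0 K.subtype_injective, show (SK : Subgroup K) = P.subgroupOf K from rfl,
      Subgroup.map_subgroupOf_eq_of_le hP.le]
  have hlines := h.toHypF.lines hr₀p hP hR₀ hact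
  by_cases hfull : ∀ e ∈ A, e ≠ 1 → cz P e ≠ ⊥
  · exact hMK (le_antisymm inf_le_left (h.toHyp.gen le_rfl h.inv fun a ha ha1 => hCB a ha ha1 (hfull a ha ha1)))
  push Not at hfull
  obtain ⟨e, he, he1, hPe⟩ := hfull
  have hoff : ∀ (r : ℕ) (_ : Fact r.Prime) (R : Subgroup Γ), Syl A K r R → ⁅R, zpowers e⁆ ≤ M :=
    fun r hr R hR => h.toHypF.commutator_line_le he he1 hR.le hR.inv hR.pgrp fun d hd hde =>
      le_trans (inf_le_inf_right _ hR.le)
        (hCB d hd (fun e' => hde (e' ▸ one_mem _)) (hlines e he he1 hPe d hd hde))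
  set C := cz K e
  have hCi : Inv A C := h.toHyp.inv_cz h.inv he
  by_cases hMe : M ⊓ C = ⊥
  · -- the part of each Sylow subgroup in `M` is normal in `M`
    refine hMK (le_antisymm inf_le_left (h.toHypF.le_of_sylow le_rfl h.inv fun r hr R hR => ?_))
    refine inf_le_left.trans ?_
    by_cases hR0 : R = ⊥
    · rw [hR0]; exact bot_le
    have hrK : r ∣ Nat.card K := by
      by_contra hn; exact hR0 ((hR.eq_bot_iff').2 hn)
    set U := R ⊓ M
    have hM' := h.toHypF.mono (show M ≤ K from inf_le_left) hMi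
    have hsolM := h.proper M inf_le_left hMK hMi
    have hU : Syl A M r U := hR.inf h.toHypF inf_le_left hMi
    have hfix : ∀ {V : Subgroup Γ}, V ≤ M → cz V e = ⊥ := fun {V} hV => le_bot_iff.1
      ((le_inf (inf_le_left.trans hV) (inf_le_inf_right _ (hV.trans inf_le_left))).trans hMe.le)
    have hUD : ⁅M, M⁆ ≤ normalizer (U : Set Γ) := by
      refine hM'.le_of_sylow (Subgroup.commutator_le_self M) (hMi.commutator hMi) fun s hs S hS => ?_
      by_cases hsr : s = r
      · subst hsr
        rw [hS.unique hU]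
        exact inf_le_left.trans Subgroup.le_normalizer
      refine inv_of_cent (Subgroup.le_centralizer_iff.1 (h.toHyp.gen (inf_le_right.trans inf_le_left) hU.inv
        fun c hc hc1 => ?_))
      have hVM : S ⊓ ⁅M, M⁆ ≤ M := inf_le_left.trans hS.le
      by_cases hce : c ∈ zpowers e
      · intro x hx
        have hx' : x ∈ cz U e := by
          refine mem_cz.2 ⟨hx.1, ?_⟩
          have hec : e ∈ zpowers c := by
            by_contra hn
            exact (h.toHyp.not_mem_symm hc he hc1 hn).2 hce
          obtain ⟨i, rfl⟩ := Subgroup.mem_zpowers_iff.1 hec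
          exact (Commute.zpow_left (mem_cz.1 hx).2 i).eq
        rw [hfix inf_le_right, Subgroup.mem_bot] at hx'
        rw [hx']; exact one_mem _
      · exact h.toHypF.off (fun e' => hsr e'.symm) (hVM.trans inf_le_left) (hS.pgrp.to_le inf_le_left)
          (hS.inv.inf (hMi.commutator hMi)) he he1 hc hce (hfix hVM)
          (inf_le_inf_right _ (inf_le_right.trans inf_le_left)) (hU.pgrp.to_le inf_le_left)
          (h.toHyp.inv_cz hU.inv hc) (inf_le_left.trans (inf_le_right.trans (hM'.derived_syl_inv hsolM hS)))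
    have hMU : M ≤ normalizer (U : Set Γ) := (hM'.frattini hsolM hU).trans (sup_le hUD inf_le_right)
    have hEU : ⁅R, zpowers e⁆ ≤ U :=
      le_inf (commutator_le_of_le_normalizer ((zpowers_le.2 he).trans hR.inv)) (hoff r hr R hR)
    have hU0 : U ≠ ⊥ := by
      intro hU0
      refine h.not_le_line hrK hR he he1 fun x hx => ?_
      obtain ⟨y, hy, c, hc, rfl⟩ := h.toHypF.decomp_line he hR.le hR.inv hR.pgrp hx
      have hy1 : y = 1 := Subgroup.mem_bot.1 (hU0 ▸ hEU hy)
      rw [hy1, one_mul]
      exact mem_cz.2 ⟨hR.le hc.1, (mem_cz.1 hc).2⟩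
    have hRU : Inv R U := inv_of_le fun g hg y hy => by
      rw [show g * y * g⁻¹ = ⁅g, y⁆ * y by simp [commutatorElement_def]]
      exact mul_mem (hEU (h.toHypF.derived_le_line he he1 hR.le hR.inv hR.pgrp
        (Subgroup.commutator_mem_commutator hg hy.1))) hy
    have hUK : U ≤ K := inf_le_left.trans hR.le
    exact (le_inf hR.le hRU).trans (huniq _ inf_le_left
      (h.normalizer_ne hUK hU.inv hU0 (h.not_solv (solvable_of_pgroup hU.pgrp))) (h.inv.inf hU.inv.normalizer)
      (hPM.trans (le_inf inf_le_left hMU)))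
  · -- `K = M C`
    have hidx : M.relIndex K ∣ M.relIndex C := by
      have hfac : ∀ r : ℕ, r.Prime → (M.relIndex K).factorization r ≤ (M.relIndex C).factorization r := by
        intro r hr
        haveI := Fact.mk hr
        obtain ⟨R, hR⟩ := h.toHypF.exists_syl r
        have hRM := hR.inf h.toHypF (L := M) inf_le_left hMi
        have hRC := hR.inf h.toHypF (L := C) inf_le_left hCi
        have hRMC := hR.inf h.toHypF (L := M ⊓ C) (inf_le_left.trans inf_le_left) (hMi.inf hCi)
        -- `R = (R ∩ M) (R ∩ C)`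
        haveI : ((R ⊓ M).subgroupOf R).Normal := (Subgroup.normal_subgroupOf_iff_le_normalizer inf_le_left).2
          (inv_of_le fun g hg y hy => by
            rw [show g * y * g⁻¹ = ⁅g, y⁆ * y by simp [commutatorElement_def]]
            exact mul_mem (le_inf (Subgroup.commutator_le_self R)
              ((h.toHypF.derived_le_line he he1 hR.le hR.inv hR.pgrp).trans (hoff r ⟨hr⟩ R hR))
              (Subgroup.commutator_mem_commutator hg hy.1)) hy)
        have hrel : (R ⊓ M).relIndex R = ((R ⊓ M).subgroupOf R).relIndex ((R ⊓ C).subgroupOf R) := by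
          have htop : (R ⊓ M).subgroupOf R ⊔ (R ⊓ C).subgroupOf R = ⊤ := by
            apply Subgroup.map_injective R.subtype_injective
            rw [Subgroup.map_sup, Subgroup.map_subgroupOf_eq_of_le inf_le_left,
              Subgroup.map_subgroupOf_eq_of_le inf_le_left, ← MonoidHom.range_eq_map, Subgroup.range_subtype]
            refine le_antisymm (sup_le inf_le_left inf_le_left) fun x hx => ?_
            obtain ⟨y, hy, c, hc, rfl⟩ := h.toHypF.decomp_line he hR.le hR.inv hR.pgrp hx
            exact Subgroup.mul_mem_sup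
              ⟨commutator_le_of_le_normalizer ((zpowers_le.2 he).trans hR.inv) hy, hoff r ⟨hr⟩ R hR hy⟩
              ⟨hc.1, mem_cz.2 ⟨hR.le hc.1, (mem_cz.1 hc).2⟩⟩
          have e := Subgroup.relIndex_sup_right (K := (R ⊓ M).subgroupOf R) (H := (R ⊓ C).subgroupOf R)
          rw [sup_comm, htop, Subgroup.relIndex_top_right] at e
          exact e
        rw [Subgroup.relIndex_subgroupOf inf_le_left] at hrel
        have e1 : Nat.card (R ⊓ M : Subgroup Γ) * (R ⊓ M).relIndex R = Nat.card R := by
          have := Subgroup.card_mul_index ((R ⊓ M).subgroupOf R)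
          rwa [Nat.card_congr (Subgroup.subgroupOfEquivOfLe inf_le_left).toEquiv] at this
        have e2 : Nat.card (R ⊓ (M ⊓ C) : Subgroup Γ) * (R ⊓ M).relIndex (R ⊓ C) = Nat.card (R ⊓ C : Subgroup Γ) := by
          have := Subgroup.card_mul_index ((R ⊓ (M ⊓ C)).subgroupOf (R ⊓ C))
          rw [Nat.card_congr (Subgroup.subgroupOfEquivOfLe (inf_le_inf_left R inf_le_right)).toEquiv] at this
          rw [show (R ⊓ M).relIndex (R ⊓ C) = ((R ⊓ (M ⊓ C)).subgroupOf (R ⊓ C)).index by
            rw [← Subgroup.inf_relIndex_right, show R ⊓ M ⊓ (R ⊓ C) = R ⊓ (M ⊓ C) by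
              rw [inf_inf_inf_comm, inf_idem]]
            rfl]
          exact this
        have f1 : ∀ {U V : Subgroup Γ}, U ≤ V → (Nat.card V).factorization r =
            (Nat.card U).factorization r + (U.relIndex V).factorization r := fun {U V} hUV => by
          have := Subgroup.card_mul_index (U.subgroupOf V)
          rw [Nat.card_congr (Subgroup.subgroupOfEquivOfLe hUV).toEquiv] at this
          rw [← this, Nat.factorization_mul Nat.card_pos.ne' Subgroup.index_ne_zero_of_finite]
          rfl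
        have f2 := f1 (show M ≤ K from inf_le_left)
        have f3 := f1 (show M ⊓ C ≤ C from inf_le_right)
        rw [show (M ⊓ C).relIndex C = M.relIndex C from Subgroup.inf_relIndex_right M C] at f3
        rw [hR.card, hRM.card] at e1
        rw [hRC.card, hRMC.card, ← hrel] at e2
        generalize hk : (R ⊓ M).relIndex R = k at e1 e2
        have hk0 : k ≠ 0 := fun e0 => by
          rw [e0, mul_zero] at e1; exact (pow_pos hr.pos _).ne e1
        have g1 := congrArg (fun n => Nat.factorization n r) e1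
        have g2 := congrArg (fun n => Nat.factorization n r) e2
        simp only [Nat.factorization_mul (pow_pos hr.pos _).ne' hk0, Nat.Prime.factorization_pow hr,
          Finsupp.add_apply, Finsupp.single_eq_same] at g1 g2
        omega
      show (M.subgroupOf K).index ∣ (M.subgroupOf C).index
      rw [← Nat.factorization_le_iff_dvd (Subgroup.index_ne_zero_of_finite) (Subgroup.index_ne_zero_of_finite)]
      intro r
      by_cases hr : r.Prime
      · exact hfac r hr
      · simp [Nat.factorization_eq_zero_of_not_prime _ hr]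
    let ι := Subgroup.quotientSubgroupOfEmbeddingOfLE M (inf_le_left : C ≤ K)
    have hbij : Function.Bijective ι := by
      refine (Nat.bijective_iff_injective_and_card ι).2 ⟨ι.injective, le_antisymm
        (Nat.card_le_card_of_injective ι ι.injective) (Nat.le_of_dvd Nat.card_pos ?_)⟩
      rw [← Subgroup.index_eq_card, ← Subgroup.index_eq_card]
      exact hidx
    have hprod : ∀ g ∈ K, ∃ c ∈ C, c⁻¹ * g ∈ M := by
      intro g hg
      obtain ⟨x, hx⟩ := hbij.2 (QuotientGroup.mk ⟨g, hg⟩)
      induction x using QuotientGroup.induction_on with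
      | H c =>
        refine ⟨c, c.2, ?_⟩
        rw [Subgroup.quotientSubgroupOfEmbeddingOfLE_apply_mk, QuotientGroup.eq] at hx
        exact hx
    -- the core of `M`
    let N : Subgroup Γ :=
      { carrier := {x | x ∈ K ∧ ∀ g ∈ K, g * x * g⁻¹ ∈ M}
        one_mem' := ⟨one_mem _, fun g _ => by simp⟩
        mul_mem' := fun {a b} ha hb => ⟨mul_mem ha.1 hb.1, fun g hg => by
          rw [show g * (a * b) * g⁻¹ = (g * a * g⁻¹) * (g * b * g⁻¹) by group]
          exact mul_mem (ha.2 g hg) (hb.2 g hg)⟩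
        inv_mem' := fun {a} ha => ⟨inv_mem ha.1, fun g hg => by
          rw [show g * a⁻¹ * g⁻¹ = (g * a * g⁻¹)⁻¹ by group]
          exact inv_mem (ha.2 g hg)⟩ }
    have hNK : Inv K N := inv_of_le fun g hg x hx => ⟨mul_mem (mul_mem hg hx.1) (inv_mem hg), fun g' hg' => by
      rw [show g' * (g * x * g⁻¹) * g'⁻¹ = g' * g * x * (g' * g)⁻¹ by group]
      exact hx.2 _ (mul_mem hg' hg)⟩
    have hNA : Inv A N := inv_of_le fun a ha x hx => ⟨h.inv.conj_mem ha hx.1, fun g hg => by
      rw [show g * (a * x * a⁻¹) * g⁻¹ = a * ((a⁻¹ * g * a) * x * (a⁻¹ * g * a)⁻¹) * a⁻¹ by group]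
      exact hMi.conj_mem ha (hx.2 _ (by simpa using h.inv.conj_mem (inv_mem ha) hg))⟩
    have hle : M ⊓ C ≤ N := by
      intro x hx
      refine ⟨hx.1.1, fun g hg => ?_⟩
      obtain ⟨c, hc, hm⟩ := hprod g⁻¹ (inv_mem hg)
      set m := c⁻¹ * g⁻¹
      have hcx : Commute c x := h.abel e he he1 c hc.1 x hx.1.1 (mem_cz.1 hc).2 (mem_cz.1 hx.2).2
      have e1 : g * x * g⁻¹ = m⁻¹ * (c⁻¹ * x * c) * m := by simp only [m]; group
      rw [e1, mul_assoc c⁻¹, hcx.symm.eq, inv_mul_cancel_left]
      exact mul_mem (mul_mem (inv_mem hm) hx.1) hm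
    rcases h.simple N (fun x hx => hx.1) hNA hNK with e0 | e0
    · exact hMe (le_bot_iff.1 (hle.trans e0.le))
    · exact hMK (le_antisymm inf_le_left fun x hx => by
        have := (e0.ge hx).2 1 (one_mem _)
        simpa using this)

end MinCE

end CfsgLib.CoprimeAbCent
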