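import Cfsg.Agent.Lib.CoprimeAbCent.Abelian
import Cfsg.Agent.Lib.CoprimeAbCent.NonAbelian
import Cfsg.Agent.S0021

/-!
A group with a coprime action of a noncyclic group of order `q²` with abelian centralisers is solvable.
-/

set_option autoImplicit false
set_option linter.unusedSectionVars false
set_option linter.style.haveILetI false

namespace CfsgLib.CoprimeAbCent

open Subgroup Cfsg
open scoped commutatorElement IsMulCommutative Pointwise

universe u v w

theorem false_of_minCE {Γ : Type u} [Group Γ] [Finite Γ] {A K : Subgroup Γ} {q : ℕ} (h : MinCE A K q) : False := by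
  classical
  have hex : ∀ p : Nat.Primes, ∃ P, Syl A K (p : ℕ) P := fun p =>
    haveI := Fact.mk p.2
    h.toHypF.exists_syl p
  choose P hP using hex
  have hperm : ∀ p r : Nat.Primes, (P p : Set Γ) * (P r : Set Γ) = (P r : Set Γ) * (P p : Set Γ) := by
    intro p r
    haveI := Fact.mk p.2
    haveI := Fact.mk r.2
    by_cases hp : (p : ℕ) = 2
    · by_cases hr : (r : ℕ) = 2
      · rw [show p = r from Subtype.ext (hp.trans hr.symm)]
      · exact (h.permute (hP r) (hP p) (h.abelian_of_odd hr (hP r))).symm
    · exact h.permute (hP p) (hP r) (h.abelian_of_odd hp (hP p))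
  let S : (p : Nat.Primes) → Sylow (p : ℕ) K := fun p =>
    haveI := Fact.mk p.2
    Sylow.ofCard ((P p).subgroupOf K)
      ((Nat.card_congr (Subgroup.subgroupOfEquivOfLe (hP p).le).toEquiv).trans (hP p).card)
  refine h.nsolv (Cfsg.Agent.S0021.result S fun p r => ?_)
  apply Set.image_injective.2 K.subtype_injective
  rw [Set.image_mul, Set.image_mul]
  have himg : ∀ p, K.subtype '' ((S p : Set K)) = (P p : Set Γ) := fun p => by
    show K.subtype '' (((P p).subgroupOf K : Subgroup K) : Set K) = _
    rw [← Subgroup.coe_map, Subgroup.map_subgroupOf_eq_of_le (hP p).le]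
  rw [himg, himg, hperm]

theorem solvable_aux : ∀ (n : ℕ) (Γ : Type u) [Group Γ] [Finite Γ] (A K : Subgroup Γ) (q : ℕ),
    Hyp A K q → Nat.card K = n → Group.IsSolvable K := by
  intro n
  induction n using Nat.strong_induction_on with
  | _ n ih =>
    intro Γ _ _ A K q h hn
    classical
    by_contra hns
    have hproper : ∀ H : Subgroup Γ, H ≤ K → H ≠ K → Inv A H → Group.IsSolvable H := by
      intro H hH hne hHi
      refine ih (Nat.card H) ?_ Γ A H q (h.mono hH hHi) rfl
      rw [← hn]
      exact lt_of_le_of_ne (Nat.le_of_dvd Nat.card_pos (Subgroup.card_dvd_of_le hH))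
        fun e => hne (Subgroup.eq_of_le_of_card_ge hH e.ge)
    have hsimple : ∀ N : Subgroup Γ, N ≤ K → Inv A N → Inv K N → N = ⊥ ∨ N = K := by
      intro N hN hNA hNK
      by_contra hne
      push Not at hne
      set T := normalizer (N : Set Γ)
      have hNT : N ≤ T := Subgroup.le_normalizer
      set N' := N.subgroupOf T
      haveI : N'.Normal := Subgroup.normal_in_normalizer
      set K' := K.subgroupOf T
      let π := QuotientGroup.mk' N'
      have hker : π.ker ≤ K' := by rw [QuotientGroup.ker_mk']; exact fun x hx => hN hx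
      have h' := (h.subgroupOf hNA hNK).map π hker
      have hlt : Nat.card (K'.map π) < n := by
        rw [← hn, ← Nat.card_congr (Subgroup.subgroupOfEquivOfLe hNK).toEquiv]
        have e := Subgroup.card_mul_index (π.subgroupMap K').ker
        rw [Subgroup.index_ker, MonoidHom.range_eq_top.2 (π.subgroupMap_surjective K'), Subgroup.card_top] at e
        rw [← e]
        refine lt_mul_of_one_lt_left Nat.card_pos ?_
        obtain ⟨x, hx, hx1⟩ := (Subgroup.bot_or_exists_ne_one N).resolve_left hne.1
        haveI : Nontrivial (π.subgroupMap K').ker := by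
          refine nontrivial_of_ne ⟨⟨⟨x, hNT hx⟩, hN hx⟩, ?_⟩ 1 fun e => hx1 ?_
          · exact Subtype.ext ((QuotientGroup.eq_one_iff _).2 hx)
          · exact congrArg (fun w : (π.subgroupMap K').ker => ((w.1.1 : T) : Γ)) e
        exact Finite.one_lt_card
      haveI := ih _ hlt (T ⧸ N') (A.subgroupOf T |>.map π) (K'.map π) q h' rfl
      haveI := hproper N hN hne.2 hNA
      haveI : Group.IsSolvable K' := solvable_of_ker_le_range
        ((Subgroup.inclusion (show N' ≤ K' from fun x hx => hN hx)).comp
          (Subgroup.subgroupOfEquivOfLe hNT).symm.toMonoidHom)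
        (π.subgroupMap K') fun x hx => by
          have hxN : (x : T) ∈ N' := (QuotientGroup.eq_one_iff _).1 (congrArg Subtype.val hx)
          exact ⟨(Subgroup.subgroupOfEquivOfLe hNT) ⟨x, hxN⟩, Subtype.ext (by simp)⟩
      exact hns (Group.isSolvable_of_surjective (f := (Subgroup.subgroupOfEquivOfLe hNK).toMonoidHom)
        (Subgroup.subgroupOfEquivOfLe hNK).surjective)
    -- common fixed points are central
    set C := K ⊓ centralizer (A : Set Γ)
    have hCA : Inv A C := h.inv.inf (Inv.centralizer Subgroup.le_normalizer)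
    have hcent : K ≤ centralizer (C : Set Γ) := h.gen le_rfl h.inv fun a ha ha1 x hx y hy =>
      (h.abel a ha ha1 y hy.1 x hx.1 (hy.2 a ha) (mem_cz.1 hx).2).eq
    rcases hsimple C inf_le_left hCA (inv_of_cent hcent) with e | e
    · have hfix : ∀ x ∈ K, (∀ a ∈ A, a * x = x * a) → x = 1 := fun x hx hall =>
        Subgroup.mem_bot.1 (e ▸ ⟨hx, hall⟩)
      exact false_of_minCE ⟨⟨h, hfix⟩, hns, hproper, hsimple⟩
    · rw [e] at hcent
      haveI : IsMulCommutative K := ⟨⟨fun a b => Subtype.ext (hcent b.2 a a.2)⟩⟩
      exact hns inferInstance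

/-- The statement for an action by automorphisms. -/
theorem action_solvable {A : Type v} {G : Type w} [Group A] [Finite A] [Group G] [Finite G]
    [MulDistribMulAction A G] {q : ℕ} (hq : q.Prime) (hA : Nat.card A = q ^ 2) (hnc : ¬ IsCyclic A)
    (hcop : ¬ q ∣ Nat.card G)
    (hab : ∀ a : A, a ≠ 1 → IsMulCommutative ↥(FixedPoints.subgroup (Subgroup.zpowers a) G)) :
    Group.IsSolvable G := by
  let φ : A →* MulAut G := MulDistribMulAction.toMulAut A G
  haveI : Finite (G ⋊[φ] A) := Finite.of_equiv _ SemidirectProduct.equivProd.symm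
  set G' := (SemidirectProduct.inl : G →* G ⋊[φ] A).range with hG'
  set A' := (SemidirectProduct.inr : A →* G ⋊[φ] A).range with hA'
  let eG : G ≃* G' := MonoidHom.ofInjective SemidirectProduct.inl_injective
  let eA : A ≃* A' := MonoidHom.ofInjective SemidirectProduct.inr_injective
  have hconj : ∀ (a : A) (g : G), SemidirectProduct.inr a * SemidirectProduct.inl g *
      (SemidirectProduct.inr a)⁻¹ = (SemidirectProduct.inl (a • g) : G ⋊[φ] A) := fun a g => by
    rw [← map_inv]
    exact (SemidirectProduct.inl_aut a g).symm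
  have hAG : A' ≤ Subgroup.normalizer (G' : Set (G ⋊[φ] A)) := by
    haveI : G'.Normal := by
      rw [hG', SemidirectProduct.range_inl_eq_ker_rightHom]
      infer_instance
    rw [Subgroup.normalizer_eq_top]
    exact le_top
  have h : Hyp A' G' q :=
    { prime := hq
      card := (Nat.card_congr eA.toEquiv).symm.trans hA
      noncyc := fun hc => hnc (isCyclic_of_surjective eA.symm.toMonoidHom eA.symm.surjective)
      inv := hAG
      cop := fun hd => hcop ((Nat.card_congr eG.toEquiv).symm ▸ hd)
      abel := by
        rintro _ ⟨a, rfl⟩ ha1 _ ⟨x, rfl⟩ _ ⟨y, rfl⟩ hax hay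
        have ha : a ≠ 1 := fun e => ha1 (by rw [e, map_one])
        have hfix : ∀ z : G, SemidirectProduct.inr a * SemidirectProduct.inl z =
            (SemidirectProduct.inl z : G ⋊[φ] A) * SemidirectProduct.inr a →
            z ∈ FixedPoints.subgroup (Subgroup.zpowers a) G := by
          intro z hz
          have h1 : a • z = z := SemidirectProduct.inl_injective (by
            rw [← hconj, hz, mul_inv_cancel_right] : (SemidirectProduct.inl (a • z) : G ⋊[φ] A) = SemidirectProduct.inl z)
          intro b
          obtain ⟨i, hi⟩ := Subgroup.mem_zpowers_iff.1 b.2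
          show (b : A) • z = z
          rw [← hi]
          exact MulAction.mem_stabilizer_iff.1 (zpow_mem (MulAction.mem_stabilizer_iff.2 h1) i)
        have := hab a ha
        have hc := congrArg Subtype.val (mul_comm (⟨x, hfix x hax⟩ : FixedPoints.subgroup (Subgroup.zpowers a) G)
          ⟨y, hfix y hay⟩)
        exact (show Commute x y from hc).map SemidirectProduct.inl }
  haveI := solvable_aux _ _ A' G' q h rfl
  exact Group.isSolvable_of_isSolvable_injective (f := eG.toMonoidHom) eG.injective

end CfsgLib.CoprimeAbCent
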