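import Cfsg.Agent.Lib.CoprimeAbCent.Basic
import Mathlib.GroupTheory.Nilpotent

/-!
A solvable group admitting the action has a nilpotent derived subgroup.
-/

set_option autoImplicit false
set_option linter.unusedSectionVars false
set_option linter.style.haveILetI false

namespace CfsgLib.CoprimeAbCent

open Subgroup
open scoped commutatorElement IsMulCommutative

universe u
variable {Γ : Type u} [Group Γ] [Finite Γ]

/-- The derived series inside `Γ`. -/
def der (K : Subgroup Γ) : ℕ → Subgroup Γ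
  | 0 => K
  | n + 1 => ⁅der K n, der K n⁆

theorem der_eq_map (K : Subgroup Γ) : ∀ n, der K n = (derivedSeries K n).map K.subtype
  | 0 => by simp [der, derivedSeries_zero, ← MonoidHom.range_eq_map]
  | n + 1 => by rw [derivedSeries_succ, Subgroup.map_commutator, ← der_eq_map K n, der]

theorem der_le (K : Subgroup Γ) (n : ℕ) : der K n ≤ K := by
  rw [der_eq_map]; exact Subgroup.map_subtype_le _

theorem inv_der {S K : Subgroup Γ} (h : Inv S K) : ∀ n, Inv S (der K n)
  | 0 => h
  | n + 1 => (inv_der h n).commutator (inv_der h n)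

theorem exists_der_bot {K : Subgroup Γ} (hK : Group.IsSolvable K) : ∃ n, der K n = ⊥ := by
  obtain ⟨n, hn⟩ := hK.solvable
  exact ⟨n, by rw [der_eq_map, hn, Subgroup.map_bot]⟩

/-- A last derived subgroup outside `C`. -/
theorem exists_der_last {K C : Subgroup Γ} (hK : Group.IsSolvable K) (hKC : ¬ K ≤ C) :
    ∃ k, ¬ der K k ≤ C ∧ der K (k + 1) ≤ C := by
  obtain ⟨n, hn⟩ := exists_der_bot hK
  by_contra hall
  push Not at hall
  have : ∀ k, ¬ der K k ≤ C := fun k => by
    induction k with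
    | zero => exact hKC
    | succ k ih => exact hall k ih
  exact this n (hn ▸ bot_le)

variable {A K : Subgroup Γ} {q : ℕ}

theorem commutator_le_centralizer (h : HypF A K q) (hsol : Group.IsSolvable K) {V : Subgroup Γ} [V.Normal]
    [IsMulCommutative V] (hVK : V ≤ K) {r : ℕ} [Fact r.Prime] (hVr : IsPGroup r V)
    (hmin : ∀ W ≤ V, W ≠ ⊥ → Inv A W → Inv K W → W = V) : ⁅K, K⁆ ≤ centralizer (V : Set Γ) := by
  classical
  by_contra hnot
  let φ : Γ →* MulAut V := MulAut.conjNormal
  have hφ : ∀ (x : Γ) (v : V), (φ x v : Γ) = x * v * x⁻¹ := fun x v => MulAut.conjNormal_apply x v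
  have hφ1 : ∀ x : Γ, φ x = 1 ↔ x ∈ centralizer (V : Set Γ) := by
    intro x
    constructor
    · intro hx v hv
      have := congrArg (fun ψ : MulAut V => (ψ ⟨v, hv⟩ : Γ)) hx
      simp only [hφ, MulAut.one_apply] at this
      exact (mul_inv_eq_iff_eq_mul.1 this).symm
    · intro hx
      ext v
      rw [hφ, MulAut.one_apply, ← hx v v.2, mul_inv_cancel_right]
  have hfixv : ∀ (x : Γ) (v : V), φ x v = v ↔ x * v = v * x := fun x v => by
    rw [← Subtype.coe_inj, hφ, mul_inv_eq_iff_eq_mul]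
  set C := centralizer (V : Set Γ)
  have hKC : ¬ K ≤ C := fun hle => hnot ((Subgroup.commutator_le_self _).trans hle)
  obtain ⟨k, hk0, hk1⟩ := exists_der_last hsol hKC
  set N₀ := der K k
  have hN₀K : N₀ ≤ K := der_le K k
  have hN₀A : Inv A N₀ := inv_der h.inv k
  have hN₀n : Inv K N₀ := inv_der Subgroup.le_normalizer k
  have hab₀ : ∀ a ∈ N₀, ∀ b ∈ N₀, Commute (φ a) (φ b) := by
    intro a ha b hb
    rw [← commutatorElement_eq_one_iff_commute, ← map_commutatorElement, hφ1]
    exact hk1 (Subgroup.commutator_mem_commutator ha hb)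
  -- the `r'`-part
  set m := r ^ (Nat.card K).factorization r
  have hm : ∀ x ∈ K, ¬ r ∣ orderOf (x ^ m) := by
    intro x hx hd
    have h1 : (orderOf x) ∣ m * ((Nat.card K) / m) := by
      rw [Nat.ordProj_mul_ordCompl_eq_self]
      have := orderOf_dvd_natCard (⟨x, hx⟩ : K)
      rwa [Subgroup.orderOf_mk] at this
    have h2 : orderOf (x ^ m) ∣ (Nat.card K) / m := by
      refine orderOf_dvd_of_pow_eq_one ?_
      rw [← pow_mul]
      exact orderOf_dvd_iff_pow_eq_one.1 h1
    exact Nat.not_dvd_ordCompl Fact.out Nat.card_pos.ne' (hd.trans h2)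
  set N := closure ((fun x => x ^ m) '' (N₀ : Set Γ)) with hN
  have hNN₀ : N ≤ N₀ := (Subgroup.closure_le _).2 (Set.image_subset_iff.2 fun x hx => pow_mem hx m)
  have hNK : N ≤ K := hNN₀.trans hN₀K
  have hNinv : ∀ {S : Subgroup Γ}, Inv S N₀ → Inv S N := fun {S} hS => by
    have key : ∀ g ∈ S, N.map (MulAut.conj g).toMonoidHom = N := by
      intro g hg
      rw [hN, MonoidHom.map_closure, Set.image_image]
      congr 1
      ext y
      simp only [Set.mem_image]
      constructor
      · rintro ⟨x, hx, rfl⟩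
        refine ⟨g * x * g⁻¹, hS.conj_mem hg hx, ?_⟩
        rw [conj_pow]; rfl
      · rintro ⟨x, hx, rfl⟩
        refine ⟨g⁻¹ * x * g, by simpa using hS.conj_mem (inv_mem hg) hx, ?_⟩
        show g * (g⁻¹ * x * g) ^ m * g⁻¹ = x ^ m
        rw [show g⁻¹ * x * g = g⁻¹ * x * g⁻¹⁻¹ by group, conj_pow]; group
    exact inv_of_map key
  have hNA : Inv A N := hNinv hN₀A
  have hNn : Inv K N := hNinv hN₀n
  have hab : ∀ a ∈ N, ∀ b ∈ N, Commute (φ a) (φ b) := fun a ha b hb => hab₀ a (hNN₀ ha) b (hNN₀ hb)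
  have hNord : ∀ n ∈ N, ¬ r ∣ orderOf (φ n) := by
    intro n hn
    refine (Fact.out : r.Prime).coprime_iff_not_dvd.1 ?_
    refine closure_induction (p := fun x _ => r.Coprime (orderOf (φ x))) ?_ ?_ ?_ ?_ hn
    · rintro _ ⟨x, hx, rfl⟩
      exact ((Fact.out : r.Prime).coprime_iff_not_dvd.2 (hm x (hN₀K hx))).coprime_dvd_right (orderOf_map_dvd φ _)
    · simp
    · intro x y hx hy hxc hyc
      rw [map_mul]
      exact Nat.Coprime.coprime_dvd_right ((hab x hx y hy).orderOf_mul_dvd_lcm.trans (Nat.lcm_dvd_mul _ _))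
        (hxc.mul_right hyc)
    · intro x _ hxc
      rwa [map_inv, orderOf_inv]
  -- subgroups of `V` normalised by `A` and `K`
  have hcent : ∀ {S M : Subgroup Γ}, Inv S M → Inv S (V ⊓ centralizer (M : Set Γ)) := fun hM =>
    Inv.inf (by rw [Inv, Subgroup.normalizer_eq_top]; exact le_top) hM.centralizer
  have hfixN : V ⊓ centralizer (N : Set Γ) = ⊥ := by
    by_contra hne
    have hV : V ≤ centralizer (N : Set Γ) := by
      have := hmin _ inf_le_left hne (hcent hNA) (hcent hNn)
      exact this ▸ inf_le_right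
    -- then `N₀` acts as an `r`-group
    let H : Subgroup (MulAut V) := N₀.map φ
    have hH : IsPGroup r H := by
      rintro ⟨_, x, hx, rfl⟩
      refine ⟨(Nat.card K).factorization r, Subtype.ext ?_⟩
      show φ x ^ m = 1
      rw [← map_pow, hφ1]
      intro v hv
      exact (hV hv (x ^ m) (subset_closure ⟨x, hx, rfl⟩)).symm
    obtain ⟨v, hv, hv1⟩ : ∃ v : V, (∀ x ∈ N₀, φ x v = v) ∧ v ≠ 1 := by
      by_contra hall
      push Not at hall
      haveI : Finite (MulAut V) := Finite.of_injective (fun e : MulAut V => (e : V → V)) DFunLike.coe_injective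
      have hmod := hH.card_modEq_card_fixedPoints V
      have hone : Nat.card (MulAction.fixedPoints H V) = 1 := by
        rw [Nat.card_eq_one_iff_unique]
        refine ⟨⟨fun a b => Subtype.ext ?_⟩, ⟨⟨1, fun x => map_one (x : MulAut V)⟩⟩⟩
        rw [hall a.1 (fun x hx => a.2 ⟨φ x, Subgroup.mem_map_of_mem φ hx⟩),
          hall b.1 (fun x hx => b.2 ⟨φ x, Subgroup.mem_map_of_mem φ hx⟩)]
      obtain ⟨j, hj⟩ := hVr.exists_card_eq
      rw [hone, hj] at hmod
      rcases j.eq_zero_or_pos with rfl | hj0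
      · exact hk0 fun x hx w hw => by
          have : (⟨w, hw⟩ : V) = 1 := by
            haveI := (Nat.card_eq_one_iff_unique.1 (hj.trans (pow_zero r))).1
            exact Subsingleton.elim _ _
          rw [show w = 1 from congrArg Subtype.val this, one_mul, mul_one]
      · have : (r ^ j) % r = 1 % r := hmod
        rw [Nat.one_mod_eq_one.2 (Fact.out : r.Prime).ne_one,
          Nat.mod_eq_zero_of_dvd (dvd_pow_self r hj0.ne')] at this
        exact zero_ne_one this
    have hne₀ : V ⊓ centralizer (N₀ : Set Γ) ≠ ⊥ := by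
      intro e
      refine hv1 (Subtype.ext (Subgroup.mem_bot.1 (e ▸ ⟨v.2, fun x hx => ?_⟩ : (v : Γ) ∈ (⊥ : Subgroup Γ))))
      exact (hfixv x v).1 (hv x hx)
    have := hmin _ inf_le_left hne₀ (hcent hN₀A) (hcent hN₀n)
    refine hk0 (Subgroup.le_centralizer_iff.1 ?_)
    exact this ▸ inf_le_right
  -- the pieces fixed by an element of `A`
  let Z : Γ → Subgroup Γ := fun c => closure ((fun x => x ^ m) '' (cz N c : Set Γ))
  have hZle : ∀ c, Z c ≤ cz N c := fun c => (Subgroup.closure_le _).2 (Set.image_subset_iff.2 fun x hx => pow_mem hx m)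
  have hZK : ∀ c, Z c ≤ cz K c := fun c => (hZle c).trans (inf_le_inf_right _ hNK)
  have hZn : ∀ {c d : Γ}, c ∈ A → d ∈ A → d ∈ normalizer (Z c : Set Γ) := by
    intro c d hc hd
    rw [Subgroup.mem_normalizer_iff_map_conj_eq, MonoidHom.map_closure, Set.image_image]
    congr 1
    have hi := h.toHyp.inv_cz hNA hc
    ext y
    simp only [Set.mem_image]
    constructor
    · rintro ⟨x, hx, rfl⟩
      exact ⟨d * x * d⁻¹, hi.conj_mem hd hx, by rw [conj_pow]; rfl⟩
    · rintro ⟨x, hx, rfl⟩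
      refine ⟨d⁻¹ * x * d, by simpa using hi.conj_mem (inv_mem hd) hx, ?_⟩
      show d * (d⁻¹ * x * d) ^ m * d⁻¹ = x ^ m
      rw [show d⁻¹ * x * d = d⁻¹ * x * d⁻¹⁻¹ by group, conj_pow]; group
  have hcopV : ∀ c ∈ A, c ≠ 1 → (Nat.card (Z c)).Coprime (Nat.card V) := by
    intro c hc hc1
    have hord : ∀ z ∈ Z c, r.Coprime (orderOf z) := by
      intro z hz
      refine closure_induction (p := fun x _ => r.Coprime (orderOf x)) ?_ ?_ ?_ ?_ hz
      · rintro _ ⟨x, hx, rfl⟩
        exact (Fact.out : r.Prime).coprime_iff_not_dvd.2 (hm x (hNK hx.1))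
      · simp
      · intro x y hx hy hxc hyc
        have hcomm : Commute x y := h.abel c hc hc1 x (hZK c hx).1 y (hZK c hy).1
          (mem_cz.1 (hZK c hx)).2 (mem_cz.1 (hZK c hy)).2
        exact Nat.Coprime.coprime_dvd_right (hcomm.orderOf_mul_dvd_lcm.trans (Nat.lcm_dvd_mul _ _))
          (hxc.mul_right hyc)
      · intro x _ hxc
        rwa [orderOf_inv]
    obtain ⟨j, hj⟩ := hVr.exists_card_eq
    rw [hj]
    refine Nat.Coprime.pow_right _ ?_
    rw [Nat.coprime_comm, (Fact.out : r.Prime).coprime_iff_not_dvd]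
    intro hd
    obtain ⟨z, hz⟩ := exists_prime_orderOf_dvd_card' r hd
    have := hord z z.2
    rw [Subgroup.orderOf_coe, hz, Nat.coprime_self] at this
    exact (Fact.out : r.Prime).ne_one this
  have hZV : ∀ c, Z c ≤ normalizer (V : Set Γ) := fun c => by rw [Subgroup.normalizer_eq_top]; exact le_top
  let U : Γ → Subgroup Γ := fun c => ⁅V, Z c⁆
  have hUV : ∀ c, U c ≤ V := fun c => Subgroup.commutator_le_left _ _
  -- a subgroup `W` of `V` is normalised by `g` as soon as `φ g` preserves it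
  have hpres : ∀ (W : Subgroup Γ), W ≤ V → ∀ g ∈ N, (∀ w ∈ W, g * w * g⁻¹ ∈ W) → g ∈ normalizer (W : Set Γ) := by
    intro W _ g _ hg
    rw [Subgroup.mem_normalizer_iff_map_conj_eq]
    refine Subgroup.eq_of_le_of_card_ge ?_ ?_
    · rintro _ ⟨w, hw, rfl⟩; exact hg w hw
    · rw [Subgroup.card_map_of_injective (MulAut.conj g).injective]
  have hUN : ∀ c, N ≤ normalizer (U c : Set Γ) := by
    intro c g hg
    refine hpres _ (hUV c) g hg fun w hw => ?_
    have : (U c).map (MulAut.conj g).toMonoidHom ≤ U c := by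
      rw [Subgroup.map_commutator, Subgroup.commutator_le]
      rintro _ ⟨v, hv, rfl⟩ _ ⟨z, hz, rfl⟩
      set v' : V := φ g ⟨v, hv⟩
      have e1 : (MulAut.conj g).toMonoidHom v = v' := (hφ g ⟨v, hv⟩).symm
      have e2 : ⁅(v' : Γ), (MulAut.conj g).toMonoidHom z⁆ = ⁅(v' : Γ), z⁆ := by
        have hval : ∀ (x : Γ) (w : V), ⁅(w : Γ), x⁆ = (w : Γ) * ((φ x w⁻¹ : V) : Γ) := fun x w => by
          rw [hφ, commutatorElement_def]; push_cast; group
        rw [hval, hval]
        congr 2
        show φ (g * z * g⁻¹) _ = _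
        rw [map_mul φ, map_mul φ, map_inv φ, (hab g hg z (hZle c hz).1).eq, mul_inv_cancel_right]
      rw [e1, e2]
      exact Subgroup.commutator_mem_commutator v'.2 hz
    exact this ⟨w, hw, rfl⟩
  -- decomposition of `V`
  have hdec : ∀ S : Finset Γ, (∀ c ∈ S, c ∈ A ∧ c ≠ 1) → ∀ v ∈ V, ∃ t ∈ ⨆ c ∈ S, U c, ∃ v₀ ∈ V,
      (∀ c ∈ S, ∀ z ∈ Z c, z * v₀ = v₀ * z) ∧ v = t * v₀ := by
    intro S
    induction S using Finset.induction with
    | empty => exact fun _ v hv => ⟨1, one_mem _, v, hv, by simp, by simp⟩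
    | insert c S _ ih =>
      intro hS v hv
      obtain ⟨hc, hc1⟩ := hS c (Finset.mem_insert_self c S)
      obtain ⟨t, ht, v₀, hv₀, hfix, rfl⟩ := ih (fun d hd => hS d (Finset.mem_insert_of_mem hd)) v hv
      set M := ⨆ d ∈ S, Z d
      set W := V ⊓ centralizer (M : Set Γ)
      have hMN : M ≤ N := iSup₂_le fun d _ => (hZle d).trans inf_le_left
      have hW : v₀ ∈ W := by
        refine ⟨hv₀, ?_⟩
        have : M ≤ centralizer ({v₀} : Set Γ) := iSup₂_le fun d hd z hz =>
          Subgroup.mem_centralizer_singleton_iff.2 (hfix d hd z hz)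
        exact fun z hz => Subgroup.mem_centralizer_singleton_iff.1 (this hz)
      haveI : IsMulCommutative W := ⟨⟨fun a b => Subtype.ext (show (a : Γ) * b = b * a from
        congrArg Subtype.val (mul_comm (⟨a, a.2.1⟩ : V) ⟨b, b.2.1⟩))⟩⟩
      have hZW : Z c ≤ normalizer (W : Set Γ) := fun z hz => by
        refine hpres _ inf_le_left z ((hZle c hz).1) fun w hw => ⟨(inferInstance : V.Normal).conj_mem w hw.1 z, ?_⟩
        intro x hx
        have hcz := hab x (hMN hx) z (hZle c hz).1
        have h2 : φ x (φ z ⟨w, hw.1⟩) = φ z ⟨w, hw.1⟩ := by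
          rw [← MulAut.mul_apply, hcz.eq, MulAut.mul_apply, (hfixv x ⟨w, hw.1⟩).2 (hw.2 x hx)]
        have := (hfixv x (φ z ⟨w, hw.1⟩)).1 h2
        rwa [hφ] at this
      have hcW : (Nat.card (Z c)).Coprime (Nat.card W) :=
        (hcopV c hc hc1).coprime_dvd_right (Subgroup.card_dvd_of_le inf_le_left)
      have hsup := coprime_abelian_sup (Z c) W hZW hcW
      have h1 : v₀ ∈ (W ⊓ centralizer (Z c : Set Γ)) ⊔ ⁅W, Z c⁆ := hsup.symm ▸ hW
      have hcomW : ⁅W, Z c⁆ ≤ W := commutator_le_of_le_normalizer hZW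
      obtain ⟨u, hu, v₁, hv₁, hmul⟩ := CfsgLib.mem_sup_of_le_normalizer (A := W ⊓ centralizer (Z c : Set Γ))
        (W := ⁅W, Z c⁆) (inf_le_left.trans (left_le_normalizer_commutator (Z c) W)) (by rwa [sup_comm] at h1)
      refine ⟨t * u, ?_, v₁, hv₁.1.1, ?_, by rw [mul_assoc, hmul]⟩
      · rw [Finset.iSup_insert]
        exact mul_mem (Subgroup.mem_sup_right ht)
          (Subgroup.mem_sup_left (Subgroup.commutator_mono inf_le_left le_rfl hu))
      · intro d hd z hz
        rcases Finset.mem_insert.1 hd with rfl | hd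
        · exact hv₁.2 z hz
        · exact hv₁.1.2 z (Subgroup.mem_iSup_of_mem d (Subgroup.mem_iSup_of_mem hd hz))
  obtain ⟨S, hS⟩ : ∃ S : Finset Γ, ∀ c, c ∈ S ↔ c ∈ A ∧ c ≠ 1 :=
    ⟨(Set.toFinite {c | c ∈ A ∧ c ≠ 1}).toFinset, fun c => by simp⟩
  have hVsup : V ≤ ⨆ c ∈ S, U c := by
    intro v hv
    obtain ⟨t, ht, v₀, hv₀, hfix, rfl⟩ := hdec S (fun c hc => (hS c).1 hc) v hv
    have hcl : N ≤ Subgroup.centralizer ({v₀} : Set Γ) := h.toHyp.gen hNK hNA fun c hc hc1 n hn => by
      rw [Subgroup.mem_centralizer_singleton_iff]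
      have h1 : φ (n ^ m) ⟨v₀, hv₀⟩ = ⟨v₀, hv₀⟩ :=
        (hfixv _ ⟨v₀, hv₀⟩).2 (hfix c ((hS c).2 ⟨hc, hc1⟩) _ (subset_closure ⟨n, hn, rfl⟩))
      have hcopn : m.Coprime (orderOf (φ n)) :=
        Nat.Coprime.pow_left _ ((Fact.out : r.Prime).coprime_iff_not_dvd.2 (hNord n hn.1))
      obtain ⟨j, hj⟩ := exists_pow_eq_self_of_coprime hcopn
      refine (hfixv n ⟨v₀, hv₀⟩).1 ?_
      rw [← hj, ← map_pow]
      clear hj
      induction j with
      | zero => simp
      | succ j ih => rw [pow_succ, MulAut.mul_apply, h1, ih]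
    have : v₀ ∈ V ⊓ centralizer (N : Set Γ) :=
      ⟨hv₀, fun n hn => Subgroup.mem_centralizer_singleton_iff.1 (hcl hn)⟩
    rw [hfixN, Subgroup.mem_bot] at this
    rw [this, mul_one]; exact ht
  -- each `U c` is invariant
  have hUA : ∀ c ∈ A, Inv A (U c) := fun c hc =>
    (show Inv A V by rw [Inv, Subgroup.normalizer_eq_top]; exact le_top).commutator (fun d hd => hZn hc hd)
  have hUK : ∀ c ∈ A, c ≠ 1 → Inv K (U c) := by
    intro c hc hc1
    refine h.toHyp.gen le_rfl h.inv fun d hd hd1 x hx => ?_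
    by_cases hdc : d ∈ zpowers c
    · have hcx : c * x = x * c := by
        have hcd : c ∈ zpowers d := by
          by_contra hn
          exact (h.toHyp.not_mem_symm hd hc hd1 hn).2 hdc
        obtain ⟨i, rfl⟩ := Subgroup.mem_zpowers_iff.1 hcd
        exact (Commute.zpow_left (mem_cz.1 hx).2 i).eq
      rw [Subgroup.mem_normalizer_iff_map_conj_eq, Subgroup.map_commutator]
      congr 1
      · exact Subgroup.mem_normalizer_iff_map_conj_eq.1 (by rw [Subgroup.normalizer_eq_top]; trivial)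
      · have hxz : ∀ z ∈ Z c, x * z * x⁻¹ = z := fun z hz => by
          rw [(h.abel c hc hc1 x hx.1 z (hZK c hz).1 hcx (mem_cz.1 (hZK c hz)).2).eq, mul_inv_cancel_right]
        ext y
        refine ⟨?_, fun hy => ⟨y, hy, hxz y hy⟩⟩
        rintro ⟨z, hz, rfl⟩
        show x * z * x⁻¹ ∈ Z c
        rw [hxz z hz]; exact hz
    · set Y := (U c).map (MulAut.conj x).toMonoidHom
      have hZY : Z c ≤ normalizer (Y : Set Γ) := by
        intro z hz
        have hz' : x⁻¹ * z * x ∈ normalizer (U c : Set Γ) := hUN c (by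
          simpa using hNn.conj_mem (inv_mem hx.1) (hZle c hz).1)
        have e : z = (MulAut.conj x).toMonoidHom (x⁻¹ * z * x) := by simp [mul_assoc]
        rw [e]
        exact Subgroup.le_normalizer_map _ (Subgroup.mem_map_of_mem _ hz')
      have hdY : d ∈ normalizer (Y : Set Γ) := by
        have e : d = (MulAut.conj x).toMonoidHom d := by
          show d = x * d * x⁻¹
          rw [← (mem_cz.1 hx).2, mul_inv_cancel_right]
        rw [e]
        exact Subgroup.le_normalizer_map _ (Subgroup.mem_map_of_mem _ (hUA c hc hd))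
      have h1 : ⁅U c, Z c⁆ ≤ Y := by
        refine h.span_fixed hc hd hc1 hdc ((hUV c).trans hVK) (hVr.to_le (hUV c)) (hUA c hc hd) (hZK c)
          (hZn hc hd) (right_le_normalizer_commutator _ _)
          ((hcopV c hc hc1).coprime_dvd_right (Subgroup.card_dvd_of_le (hUV c))) hZY hdY fun v hv hdv => ?_
        refine ⟨v, hv, ?_⟩
        show x * v * x⁻¹ = v
        rw [(h.abel d hd hd1 x hx.1 v (hVK (hUV c hv)) (mem_cz.1 hx).2 hdv).eq, mul_inv_cancel_right]
      rw [coprime_commutator_commutator (hZV c) (hcopV c hc hc1) (Or.inr (by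
        haveI := hVr.isNilpotent; infer_instance))] at h1
      rw [Subgroup.mem_normalizer_iff_map_conj_eq]
      exact (Subgroup.eq_of_le_of_card_ge h1
        (by rw [Subgroup.card_map_of_injective (MulAut.conj x).injective])).symm
  -- a single line
  obtain ⟨c, hc, hc1, hUc⟩ : ∃ c, c ∈ A ∧ c ≠ 1 ∧ U c = V := by
    by_contra hall
    push Not at hall
    have hbot : ∀ c ∈ S, U c = ⊥ := fun c hc => by
      by_contra hne
      exact hall c ((hS c).1 hc).1 ((hS c).1 hc).2
        (hmin _ (hUV c) hne (hUA c ((hS c).1 hc).1) (hUK c ((hS c).1 hc).1 ((hS c).1 hc).2))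
    have hV0 : V = ⊥ := le_bot_iff.1 (hVsup.trans (iSup₂_le fun c hc => (hbot c hc).le))
    exact hnot fun x _ v hv => by
      rw [show v = 1 from Subgroup.mem_bot.1 (hV0 ▸ hv), one_mul, mul_one]
  -- parts off the line centralise
  have hoff : ∀ d ∈ A, d ∉ zpowers c → ∀ x ∈ cz K d, (∀ n ∈ Z c, Commute (φ x) (φ n)) → φ x = 1 := by
    intro d hd hdc x hx hcomm
    obtain ⟨hd1, -⟩ := h.toHyp.not_mem_symm hc hd hc1 hdc
    set Y := V ⊓ centralizer ({x} : Set Γ)
    have hdY : d ∈ normalizer (Y : Set Γ) := by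
      refine mem_normalizer_inf (by rw [Subgroup.normalizer_eq_top]; trivial) (Subgroup.le_normalizer ?_)
      exact Subgroup.mem_centralizer_singleton_iff.2 (mem_cz.1 hx).2
    have hZY : Z c ≤ normalizer (Y : Set Γ) := fun z hz => by
      refine hpres _ inf_le_left z (hZle c hz).1 fun w hw => ?_
      obtain ⟨hwV, hwx⟩ := hw
      refine ⟨(inferInstance : V.Normal).conj_mem w hwV z, Subgroup.mem_centralizer_singleton_iff.2 ?_⟩
      have h1 : φ x (φ z ⟨w, hwV⟩) = φ z ⟨w, hwV⟩ := by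
        rw [← MulAut.mul_apply, (hcomm z hz).eq, MulAut.mul_apply,
          (hfixv x ⟨w, hwV⟩).2 (Subgroup.mem_centralizer_singleton_iff.1 hwx).symm]
      have := (hfixv x (φ z ⟨w, hwV⟩)).1 h1
      rw [hφ] at this
      exact this.symm
    have h1 : ⁅V, Z c⁆ ≤ Y := h.span_fixed hc hd hc1 hdc hVK hVr
      (by rw [Subgroup.normalizer_eq_top]; trivial) (hZK c) (hZn hc hd) (hZV c) (hcopV c hc hc1) hZY hdY
      fun v hv hdv => ⟨hv, Subgroup.mem_centralizer_singleton_iff.2
        (h.abel d hd hd1 v (hVK hv) x hx.1 hdv (mem_cz.1 hx).2).eq⟩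
    rw [show ⁅V, Z c⁆ = V from hUc] at h1
    rw [hφ1]
    exact fun v hv => Subgroup.mem_centralizer_singleton_iff.1 (h1 hv).2
  -- every element of `N` acts as one fixed by `c`
  have hNc : N ≤ ((cz N c).map φ).comap φ := h.toHyp.gen hNK hNA fun d hd hd1 n hn => by
    by_cases hdc : d ∈ zpowers c
    · refine ⟨n, mem_cz.2 ⟨hn.1, ?_⟩, rfl⟩
      have hcd : c ∈ zpowers d := by
        by_contra hn'
        exact (h.toHyp.not_mem_symm hd hc hd1 hn').2 hdc
      obtain ⟨i, rfl⟩ := Subgroup.mem_zpowers_iff.1 hcd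
      exact (Commute.zpow_left (mem_cz.1 hn).2 i).eq
    · exact ⟨1, one_mem _, by
        rw [map_one, hoff d hd hdc n ⟨hNK hn.1, hn.2⟩ fun z hz => hab n hn.1 z (hZle c hz).1]⟩
  -- `K` is central on `N`
  have hcentral : ∀ y ∈ K, ∀ n ∈ N, Commute (φ y) (φ n) := by
    have hbr : ∀ y ∈ K, ∀ n ∈ N, Commute (φ ⁅y, c⁆) (φ n) := by
      have hcn : ∀ n ∈ N, φ (c * n * c⁻¹) = φ n := by
        intro n hn
        obtain ⟨n', hn', e⟩ := hNc hn
        rw [map_mul, map_mul, map_inv, ← e, ← map_inv, ← map_mul, ← map_mul, (mem_cz.1 hn').2, mul_inv_cancel_right]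
      intro y hy n hn
      set n' := y⁻¹ * n * y
      have hn' : n' ∈ N := by simpa [n'] using hNn.conj_mem (inv_mem hy) hn
      -- `c n' c⁻¹` acts as `n'`
      have h1 := hcn n' hn'
      have h2 : φ (y * c * y⁻¹ * c⁻¹ * (c * n * c⁻¹) * (y * c * y⁻¹ * c⁻¹)⁻¹) = φ n := by
        rw [show y * c * y⁻¹ * c⁻¹ * (c * n * c⁻¹) * (y * c * y⁻¹ * c⁻¹)⁻¹ = y * (c * n' * c⁻¹) * y⁻¹ by
          simp only [n']; group]
        rw [map_mul, map_mul, h1, ← map_mul, ← map_mul]
        congr 1
        simp only [n']; group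
      rw [map_mul, map_mul, hcn n hn, map_inv, mul_inv_eq_iff_eq_mul] at h2
      exact h2
    intro y hy n hn
    obtain ⟨x, hx, e, he, rfl⟩ := coprime_decomp (A := zpowers c) ((zpowers_le.2 hc).trans h.inv)
      (h.toHyp.cop_zpowers le_rfl hc) (Or.inr hsol) hy
    rw [map_mul]
    refine Commute.mul_left ?_ ?_
    · have : ⁅K, zpowers c⁆ ≤ (centralizer ({φ n} : Set (MulAut V))).comap φ := by
        rw [Subgroup.commutator_le]
        intro y hy a ha
        obtain ⟨i, rfl⟩ := mem_powers_iff_mem_zpowers.2 ha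
        simp only [Subgroup.mem_comap, Subgroup.mem_centralizer_singleton_iff]
        induction i generalizing y with
        | zero => simp
        | succ i ih =>
          have hyc : c * y * c⁻¹ ∈ K := h.inv.conj_mem hc hy
          rw [show ⁅y, c ^ (i + 1)⁆ = ⁅y, c⁆ * ⁅c * y * c⁻¹, c ^ i⁆ by
            simp only [commutatorElement_def, pow_succ']; group, map_mul]
          exact (Commute.mul_left (hbr y hy n hn) (ih _ hyc (pow_mem (mem_zpowers c) i))).eq
      exact Subgroup.mem_centralizer_singleton_iff.1 (this hx)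
    · obtain ⟨n', hn', e'⟩ := hNc hn
      rw [← e']
      exact (h.abel c hc hc1 e he.1 n' (hNK hn'.1) (he.2 c (mem_zpowers c)) (mem_cz.1 hn').2).map φ
  have hKc : K ≤ ((cz K c).map φ).comap φ := h.toHyp.gen le_rfl h.inv fun d hd hd1 x hx => by
    by_cases hdc : d ∈ zpowers c
    · refine ⟨x, mem_cz.2 ⟨hx.1, ?_⟩, rfl⟩
      have hcd : c ∈ zpowers d := by
        by_contra hn'
        exact (h.toHyp.not_mem_symm hd hc hd1 hn').2 hdc
      obtain ⟨i, rfl⟩ := Subgroup.mem_zpowers_iff.1 hcd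
      exact (Commute.zpow_left (mem_cz.1 hx).2 i).eq
    · exact ⟨1, one_mem _, by rw [map_one, hoff d hd hdc x hx fun z hz => hcentral x hx.1 z (hZle c hz).1]⟩
  refine hnot ((Subgroup.commutator_le).2 fun x hx y hy => (hφ1 _).1 ?_)
  obtain ⟨x', hx', ex⟩ := hKc hx
  obtain ⟨y', hy', ey⟩ := hKc hy
  rw [map_commutatorElement, commutatorElement_eq_one_iff_commute, ← ex, ← ey]
  exact (h.abel c hc hc1 x' hx'.1 y' hy'.1 (mem_cz.1 hx').2 (mem_cz.1 hy').2).map φ

theorem commutator_nilpotent_aux : ∀ (n : ℕ) (Γ : Type u) [Group Γ] [Finite Γ] (A K : Subgroup Γ) (q : ℕ),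
    HypF A K q → Group.IsSolvable K → Nat.card K = n → Group.IsNilpotent ↥(⁅K, K⁆ : Subgroup Γ) := by
  intro n
  induction n using Nat.strong_induction_on with
  | _ n ih =>
    intro Γ _ _ A K q h hsol hn
    classical
    by_cases hK : K = ⊥
    · subst hK
      haveI : Subsingleton ↥(⁅(⊥ : Subgroup Γ), (⊥ : Subgroup Γ)⁆ : Subgroup Γ) := by
        rw [Subgroup.commutator_bot_left]; infer_instance
      infer_instance
    obtain ⟨k, hk0, hk1⟩ := exists_der_last (C := (⊥ : Subgroup Γ)) hsol (fun e => hK (le_bot_iff.1 e))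
    obtain ⟨V, ⟨hV0, hVK, hVA, hVn, hVc⟩, hmin⟩ := (Set.toFinite {V : Subgroup Γ | V ≠ ⊥ ∧ V ≤ K ∧ Inv A V ∧
      Inv K V ∧ ⁅V, V⁆ = ⊥}).exists_minimal ⟨der K k, fun e => hk0 e.le, der_le K k,
        inv_der h.inv k, inv_der Subgroup.le_normalizer k, le_bot_iff.1 hk1⟩
    have hcomm : ∀ a ∈ V, ∀ b ∈ V, Commute a b := fun a ha b hb =>
      commutatorElement_eq_one_iff_commute.1 (Subgroup.mem_bot.1 (hVc ▸ Subgroup.commutator_mem_commutator ha hb))
    obtain ⟨r, hr, hrd⟩ := Nat.exists_prime_and_dvd (n := Nat.card V) (fun e => hV0 (Subgroup.card_eq_one.1 e))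
    haveI := Fact.mk hr
    have hVr : IsPGroup r V := by
      let V' : Subgroup Γ :=
        { carrier := {x | x ∈ V ∧ ∃ j, x ^ r ^ j = 1}
          one_mem' := ⟨one_mem _, 0, by simp⟩
          mul_mem' := by
            rintro a b ⟨ha, i, hi⟩ ⟨hb, j, hj⟩
            refine ⟨mul_mem ha hb, i + j, ?_⟩
            rw [(hcomm a ha b hb).mul_pow, pow_add, pow_mul, hi, one_pow, one_mul, mul_comm, pow_mul, hj, one_pow]
          inv_mem' := by
            rintro a ⟨ha, i, hi⟩
            exact ⟨inv_mem ha, i, by rw [inv_pow, hi, inv_one]⟩ }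
      have hinv : ∀ {S : Subgroup Γ}, Inv S V → Inv S V' := fun hS g hg => by
        have key : ∀ g, g ∈ _ → ∀ x ∈ V', g * x * g⁻¹ ∈ V' := fun g (hg : g ∈ _) x hx =>
          ⟨hS.conj_mem hg hx.1, hx.2.imp fun j hj => by rw [conj_pow, hj, mul_one, mul_inv_cancel]⟩
        refine Subgroup.mem_normalizer_iff.2 fun x => ⟨key g hg x, fun hx => ?_⟩
        simpa [mul_assoc] using key g⁻¹ (inv_mem hg) _ hx
      have hne : V' ≠ ⊥ := by
        obtain ⟨x, hx⟩ := exists_prime_orderOf_dvd_card' r hrd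
        intro e
        have : (x : Γ) ∈ V' := ⟨x.2, 1, by
          rw [pow_one, ← hx, ← Subgroup.orderOf_coe, pow_orderOf_eq_one]⟩
        rw [e, Subgroup.mem_bot] at this
        rw [← Subgroup.orderOf_coe, this, orderOf_one] at hx
        exact hr.ne_one hx.symm
      have hV'V : V' ≤ V := fun x hx => hx.1
      have hle : V ≤ V' := hmin (y := V') ⟨hne, hV'V.trans hVK, hinv hVA, hinv hVn,
        le_bot_iff.1 ((Subgroup.commutator_mono hV'V hV'V).trans hVc.le)⟩ hV'V
      intro x
      obtain ⟨-, j, hj⟩ := hle x.2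
      exact ⟨j, Subtype.ext (by simpa using hj)⟩
    -- inside the normaliser of `V`
    set T := normalizer (V : Set Γ)
    set V' := V.subgroupOf T
    have hVT : V ≤ T := Subgroup.le_normalizer
    haveI : V'.Normal := Subgroup.normal_in_normalizer
    haveI : IsMulCommutative V' := ⟨⟨fun a b => Subtype.ext (Subtype.ext (hcomm _ a.2 _ b.2).eq)⟩⟩
    have hVr' : IsPGroup r V' := hVr.of_equiv (Subgroup.subgroupOfEquivOfLe hVT).symm
    set A' := A.subgroupOf T
    set K' := K.subgroupOf T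
    have h' : HypF A' K' q := h.subgroupOf hVA hVn
    have hsol' : Group.IsSolvable K' := Group.isSolvable_of_isSolvable_injective
      (f := (Subgroup.subgroupOfEquivOfLe hVn).toMonoidHom) (Subgroup.subgroupOfEquivOfLe hVn).injective
    have hmin' : ∀ W ≤ V', W ≠ ⊥ → Inv A' W → Inv K' W → W = V' := by
      intro W hW hW0 hWA hWK
      have hsub : ∀ {S : Subgroup Γ}, S ≤ T → Inv (S.subgroupOf T) W → Inv S (W.map T.subtype) := by
        intro S hS hinv g hg
        exact Subgroup.le_normalizer_map T.subtype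
          (Subgroup.mem_map_of_mem T.subtype (hinv (show (⟨g, hS hg⟩ : T) ∈ S.subgroupOf T from hg)))
      have hWV : W.map T.subtype ≤ V := by
        rintro _ ⟨w, hw, rfl⟩; exact hW hw
      have hle : V ≤ W.map T.subtype := hmin (y := W.map T.subtype)
        ⟨fun e => hW0 ((Subgroup.map_eq_bot_iff_of_injective _ T.subtype_injective).1 e),
          hWV.trans hVK, hsub hVA hWA, hsub hVn hWK,
          le_bot_iff.1 ((Subgroup.commutator_mono hWV hWV).trans hVc.le)⟩ hWV
      refine le_antisymm hW fun x hx => ?_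
      obtain ⟨w, hw, e⟩ := hle hx
      exact (Subtype.ext e : w = x) ▸ hw
    have hcentral := commutator_le_centralizer h' hsol'
      (show V' ≤ K' from fun x hx => hVK hx) hVr' hmin'
    let π := QuotientGroup.mk' V'
    have hker : π.ker ≤ K' := by rw [QuotientGroup.ker_mk']; exact fun x hx => hVK hx
    have hlt : Nat.card (K'.map π) < n := by
      rw [← hn, ← Nat.card_congr (Subgroup.subgroupOfEquivOfLe hVn).toEquiv]
      have e := Subgroup.card_mul_index (π.subgroupMap K').ker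
      rw [Subgroup.index_ker, MonoidHom.range_eq_top.2 (π.subgroupMap_surjective K'), Subgroup.card_top] at e
      rw [← e]
      refine lt_mul_of_one_lt_left Nat.card_pos ?_
      obtain ⟨x, hx, hx1⟩ := (Subgroup.bot_or_exists_ne_one V).resolve_left hV0
      haveI : Nontrivial (π.subgroupMap K').ker := by
        refine nontrivial_of_ne ⟨⟨⟨x, hVT hx⟩, hVK hx⟩, ?_⟩ 1 fun e => hx1 ?_
        · exact Subtype.ext ((QuotientGroup.eq_one_iff _).2 hx)
        · exact congrArg (fun w : (π.subgroupMap K').ker => ((w.1.1 : T) : Γ)) e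
      exact Finite.one_lt_card
    haveI := ih _ hlt (T ⧸ V') (A'.map π) (K'.map π) q (h'.map π hker)
      (Group.isSolvable_of_surjective (π.subgroupMap_surjective K')) rfl
    set D : Subgroup T := ⁅K', K'⁆
    have hDn : Group.IsNilpotent D := by
      have hD : D.map π = ⁅K'.map π, K'.map π⁆ := Subgroup.map_commutator _ _ _
      haveI : Group.IsNilpotent ↥(D.map π) := hD ▸ inferInstance
      refine Subgroup.isNilpotent_of_ker_le_center (π.subgroupMap D) ?_
      intro x hx
      have hxV : (x : T) ∈ V' := (QuotientGroup.eq_one_iff _).1 (congrArg Subtype.val hx)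
      exact Subgroup.mem_center_iff.2 fun y => Subtype.ext ((hcentral y.2) x hxV).symm
    have hmap : D.map T.subtype = ⁅K, K⁆ := by
      rw [Subgroup.map_commutator, Subgroup.map_subgroupOf_eq_of_le hVn]
    rw [← hmap]
    exact Group.nilpotent_of_mulEquiv (Subgroup.equivMapOfInjective D T.subtype T.subtype_injective)

/-- The derived subgroup of a solvable group with the action is nilpotent. -/
theorem commutator_nilpotent (h : HypF A K q) (hsol : Group.IsSolvable K) :
    Group.IsNilpotent ↥(⁅K, K⁆ : Subgroup Γ) :=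
  commutator_nilpotent_aux _ Γ A K q h hsol rfl

end CfsgLib.CoprimeAbCent
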