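import Cfsg.Agent.Lib.CoprimeAbCent.Meta
import Cfsg.Agent.Lib.PComplement

/-!
A counterexample of least order: Sylow subgroups and the shape of proper invariant subgroups.
-/

set_option autoImplicit false
set_option linter.unusedSectionVars false
set_option linter.style.haveILetI false

namespace CfsgLib.CoprimeAbCent

open Subgroup Cfsg
open scoped commutatorElement IsMulCommutative

universe u
variable {Γ : Type u} [Group Γ] [Finite Γ] {A K : Subgroup Γ} {q : ℕ}

/-- The invariant Sylow subgroup. -/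
structure Syl (A K : Subgroup Γ) (p : ℕ) (P : Subgroup Γ) : Prop where
  le : P ≤ K
  inv : Inv A P
  pgrp : IsPGroup p P
  card : Nat.card P = p ^ (Nat.card K).factorization p
  max : ∀ U ≤ K, Inv A U → IsPGroup p U → U ≤ P

/-- A counterexample without proper invariant normal subgroups. -/
structure MinCE (A K : Subgroup Γ) (q : ℕ) : Prop extends HypF A K q where
  nsolv : ¬ Group.IsSolvable K
  proper : ∀ H : Subgroup Γ, H ≤ K → H ≠ K → Inv A H → Group.IsSolvable H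
  simple : ∀ N : Subgroup Γ, N ≤ K → Inv A N → Inv K N → N = ⊥ ∨ N = K

theorem inv_of_le {S H : Subgroup Γ} (h : ∀ g ∈ S, ∀ x ∈ H, g * x * g⁻¹ ∈ H) : Inv S H := fun g hg =>
  Subgroup.mem_normalizer_iff.2 fun x => ⟨h g hg x, fun hx => by simpa [mul_assoc] using h g⁻¹ (inv_mem hg) _ hx⟩

theorem inv_of_cent {S H : Subgroup Γ} (h : S ≤ centralizer (H : Set Γ)) : Inv S H :=
  inv_of_le fun g hg x hx => by rw [← h hg x hx, mul_inv_cancel_right]; exact hx

theorem solvable_of_pgroup {p : ℕ} [Fact p.Prime] {U : Subgroup Γ} (hU : IsPGroup p U) : Group.IsSolvable U := by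
  haveI := hU.isNilpotent
  infer_instance

theorem mem_of_coprime_index {H N : Subgroup Γ} [hn : (N.subgroupOf H).Normal] {x : Γ} (hx : x ∈ H)
    (hcop : (orderOf x).Coprime (N.subgroupOf H).index) : x ∈ N := by
  have h1 : ((⟨x, hx⟩ : H) : H ⧸ N.subgroupOf H) = 1 := by
    rw [← orderOf_eq_one_iff]
    refine Nat.eq_one_of_dvd_coprimes hcop ?_ (Subgroup.index_eq_card (N.subgroupOf H) ▸ orderOf_dvd_natCard _)
    refine (orderOf_map_dvd (QuotientGroup.mk' (N.subgroupOf H)) (⟨x, hx⟩ : H)).trans ?_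
    rw [Subgroup.orderOf_mk]
  exact Subgroup.mem_subgroupOf.1 ((QuotientGroup.eq_one_iff (⟨x, hx⟩ : H)).1 h1)

theorem card_pow_factorization {p : ℕ} [Fact p.Prime] {U H : Subgroup Γ} (hUH : U ≤ H) (hU : IsPGroup p U) :
    Nat.card U ≤ p ^ (Nat.card H).factorization p := by
  obtain ⟨j, hj⟩ := hU.exists_card_eq
  rw [hj]
  exact Nat.pow_le_pow_right (Fact.out : p.Prime).pos
    (((Fact.out : p.Prime).pow_dvd_iff_le_factorization Nat.card_pos.ne').1 (hj ▸ Subgroup.card_dvd_of_le hUH))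

namespace HypF

variable (h : HypF A K q)
include h

theorem exists_syl (p : ℕ) [Fact p.Prime] : ∃ P, Syl A K p P := by
  obtain ⟨P, hP⟩ := coprime_exists_invariant_sylow h.inv (h.cop' le_rfl) (Or.inl h.solvA) p
  refine ⟨(P : Subgroup K).map K.subtype, Subgroup.map_subtype_le _, hP, P.2.map _, ?_, fun U hU hUA hUp => ?_⟩
  · rw [Subgroup.card_map_of_injective K.subtype_injective, P.card_eq_multiplicity]
  · obtain ⟨Q, hUQ, hQ⟩ := coprime_le_invariant_sylow h.inv (h.cop' le_rfl) (Or.inl h.solvA) hU hUp hUA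
    obtain ⟨c, hc, hcQ⟩ := coprime_invariant_sylow_conj h.inv (h.cop' le_rfl) (Or.inl h.solvA) Q P hQ hP
    have hc1 : c = 1 := Subtype.ext (h.fix c c.2 fun a ha => hc a ha)
    rw [hc1, map_one, one_smul] at hcQ
    exact hcQ ▸ hUQ

end HypF

namespace Syl

variable {p : ℕ} [Fact p.Prime] {P : Subgroup Γ} (hP : Syl A K p P)
include hP

theorem unique {Q : Subgroup Γ} (hQ : Syl A K p Q) : P = Q :=
  le_antisymm (hQ.max P hP.le hP.inv hP.pgrp) (hP.max Q hQ.le hQ.inv hQ.pgrp)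

theorem inf (h : HypF A K q) {L : Subgroup Γ} (hL : L ≤ K) (hLi : Inv A L) : Syl A L p (P ⊓ L) := by
  obtain ⟨Q, hQ⟩ := (h.mono hL hLi).exists_syl p
  have hle : Q ≤ P ⊓ L := le_inf (hP.max Q (hQ.le.trans hL) hQ.inv hQ.pgrp) hQ.le
  have : Q = P ⊓ L := Subgroup.eq_of_le_of_card_ge hle
    (hQ.card ▸ card_pow_factorization inf_le_right (hP.pgrp.to_le inf_le_left))
  exact this ▸ hQ

theorem eq_bot_iff' : P = ⊥ ↔ ¬ p ∣ Nat.card K := by
  rw [← Subgroup.card_eq_one, hP.card, Nat.pow_eq_one]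
  constructor
  · rintro (e | e)
    · exact absurd e (Fact.out : p.Prime).ne_one
    · exact fun hd => ((Fact.out : p.Prime).factorization_pos_of_dvd Nat.card_pos.ne' hd).ne' e
  · exact fun hd => Or.inr (Nat.factorization_eq_zero_of_not_dvd hd)

/-- An element fixed by a nontrivial element of `A` of `p`-power order lies in `P`. -/
theorem mem_of_fixed (h : HypF A K q) {a y : Γ} (ha : a ∈ A) (ha1 : a ≠ 1) (hy : y ∈ cz K a)
    (hord : ∃ j, y ^ p ^ j = 1) : y ∈ P := by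
  let U : Subgroup Γ :=
    { carrier := {x | x ∈ cz K a ∧ ∃ j, x ^ p ^ j = 1}
      one_mem' := ⟨one_mem _, 0, by simp⟩
      mul_mem' := by
        rintro x z ⟨hx, i, hi⟩ ⟨hz, j, hj⟩
        refine ⟨mul_mem hx hz, i + j, ?_⟩
        rw [(h.abel a ha ha1 x hx.1 z hz.1 (mem_cz.1 hx).2 (mem_cz.1 hz).2).mul_pow, pow_add, pow_mul, hi,
          one_pow, one_mul, mul_comm, pow_mul, hj, one_pow]
      inv_mem' := by
        rintro x ⟨hx, i, hi⟩
        exact ⟨inv_mem hx, i, by rw [inv_pow, hi, inv_one]⟩ }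
  have hUK : U ≤ K := fun x hx => hx.1.1
  have hUA : Inv A U := inv_of_le fun g hg x hx =>
    ⟨(h.inv_cz h.inv ha).conj_mem hg hx.1, hx.2.imp fun j hj => by rw [conj_pow, hj, mul_one, mul_inv_cancel]⟩
  have hUp : IsPGroup p U := fun x => x.2.2.imp fun j hj => Subtype.ext (by simpa using hj)
  exact hP.max U hUK hUA hUp ⟨hy, hord⟩

end Syl

namespace HypF

variable (h : HypF A K q)
include h

theorem le_of_sylow {H M : Subgroup Γ} (hH : H ≤ K) (hHi : Inv A H)
    (hM : ∀ (r : ℕ) (_ : Fact r.Prime) (R : Subgroup Γ), Syl A K r R → R ⊓ H ≤ M) : H ≤ M := by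
  have hc : Nat.card H ∣ Nat.card (H ⊓ M : Subgroup Γ) := by
    rw [← Nat.factorization_le_iff_dvd Nat.card_pos.ne' Nat.card_pos.ne']
    intro r
    by_cases hr : r.Prime
    · haveI := Fact.mk hr
      obtain ⟨R, hR⟩ := h.exists_syl r
      have hRH := hR.inf h hH hHi
      have hd : Nat.card (R ⊓ H : Subgroup Γ) ∣ Nat.card (H ⊓ M : Subgroup Γ) :=
        Subgroup.card_dvd_of_le (le_inf inf_le_right (hM r ⟨hr⟩ R hR))
      rw [hRH.card] at hd
      exact (hr.pow_dvd_iff_le_factorization Nat.card_pos.ne').1 hd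
    · simp [Nat.factorization_eq_zero_of_not_prime _ hr]
  exact (Subgroup.eq_of_le_of_card_ge inf_le_left (Nat.le_of_dvd Nat.card_pos hc)).ge.trans inf_le_right

/-- `[U,e]` comes from the fixed points off the line of `e`. -/
theorem commutator_line_le {U Y : Subgroup Γ} {r : ℕ} [Fact r.Prime] {e : Γ} (he : e ∈ A) (he1 : e ≠ 1)
    (hU : U ≤ K) (hUi : Inv A U) (hUr : IsPGroup r U)
    (hY : ∀ d ∈ A, d ∉ zpowers e → cz U d ≤ Y) : ⁅U, zpowers e⁆ ≤ Y := by
  haveI : IsMulCommutative A := ⟨⟨fun a b => Subtype.ext (h.comm a.2 b.2)⟩⟩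
  have heU : zpowers e ≤ normalizer (U : Set Γ) := (zpowers_le.2 he).trans hUi
  set E := ⁅U, zpowers e⁆
  have hEU : E ≤ U := commutator_le_of_le_normalizer heU
  have hEK : E ≤ K := hEU.trans hU
  have hEA : Inv A E := hUi.commutator (inv_of_le fun g hg x hx => by
    rw [h.comm hg (zpowers_le.2 he hx), mul_inv_cancel_right]; exact hx)
  have hE : IsPGroup r E := hUr.to_le hEU
  have hcop := h.cop_zpowers hU he
  have hEe : ⁅E, zpowers e⁆ = E := coprime_commutator_commutator heU hcop (Or.inr (solvable_of_pgroup hUr))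
  refine (eq_of_le_sup_phi (X := Y ⊓ E) inf_le_right (h.gen hEK hEA fun a ha ha1 x hx => ?_)).trans inf_le_left
  by_cases hae : a ∈ zpowers e
  · refine Subgroup.mem_sup_right (fixed_le_phi hE (right_le_normalizer_commutator _ _)
      (h.cop_zpowers hEK he) hEe ⟨hx.1, fun y hy => ?_⟩)
    have hea : e ∈ zpowers a := by
      by_contra hn
      exact (h.not_mem_symm ha he ha1 hn).2 hae
    obtain ⟨i, rfl⟩ := Subgroup.mem_zpowers_iff.1 (zpowers_le.2 hea hy)
    exact (Commute.zpow_left (mem_cz.1 hx).2 i).eq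
  · exact Subgroup.mem_sup_left ⟨hY a ha hae (mem_cz.2 ⟨hEU hx.1, (mem_cz.1 hx).2⟩), hx.1⟩

theorem decomp_line {U : Subgroup Γ} {r : ℕ} [Fact r.Prime] {e : Γ} (he : e ∈ A) (hU : U ≤ K) (hUi : Inv A U)
    (hUr : IsPGroup r U) {x : Γ} (hx : x ∈ U) :
    ∃ y ∈ ⁅U, zpowers e⁆, ∃ c ∈ cz U e, x = y * c := by
  obtain ⟨y, hy, c, hc, rfl⟩ := coprime_decomp ((zpowers_le.2 he).trans hUi) (h.cop_zpowers hU he)
    (Or.inr (solvable_of_pgroup hUr)) hx
  exact ⟨y, hy, c, mem_cz.2 ⟨hc.1, hc.2 e (mem_zpowers e)⟩, rfl⟩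

theorem derived_le_line {U : Subgroup Γ} {r : ℕ} [Fact r.Prime] {e : Γ} (he : e ∈ A) (he1 : e ≠ 1) (hU : U ≤ K)
    (hUi : Inv A U) (hUr : IsPGroup r U) : ⁅U, U⁆ ≤ ⁅U, zpowers e⁆ := by
  set E := ⁅U, zpowers e⁆
  haveI : (E.subgroupOf U).Normal := (Subgroup.normal_subgroupOf_iff_le_normalizer
    (commutator_le_of_le_normalizer ((zpowers_le.2 he).trans hUi))).2 (left_le_normalizer_commutator _ _)
  rw [Subgroup.commutator_le]
  intro x hx y hy
  obtain ⟨x₁, hx₁, c, hc, rfl⟩ := h.decomp_line he hU hUi hUr hx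
  obtain ⟨y₁, hy₁, d, hd, rfl⟩ := h.decomp_line he hU hUi hUr hy
  let π := QuotientGroup.mk' (E.subgroupOf U)
  have key : ∀ (w : Γ) (hw : w ∈ E) (v : Γ) (hv : v ∈ U) (hwv : w * v ∈ U),
      π ⟨w * v, hwv⟩ = π ⟨v, hv⟩ := by
    intro w hw v hv hwv
    have hwU : w ∈ U := commutator_le_of_le_normalizer ((zpowers_le.2 he).trans hUi) hw
    rw [show (⟨w * v, hwv⟩ : U) = ⟨w, hwU⟩ * ⟨v, hv⟩ from rfl, map_mul,
      show π ⟨w, hwU⟩ = 1 from (QuotientGroup.eq_one_iff _).2 hw, one_mul]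
  have hcd : Commute (⟨c, hc.1⟩ : U) ⟨d, hd.1⟩ :=
    Subtype.ext (h.abel e he he1 c (hU hc.1) d (hU hd.1) (mem_cz.1 hc).2 (mem_cz.1 hd).2).eq
  have : π ⁅(⟨x₁ * c, hx⟩ : U), ⟨y₁ * d, hy⟩⁆ = 1 := by
    rw [map_commutatorElement, key x₁ hx₁ c hc.1 hx, key y₁ hy₁ d hd.1 hy, commutatorElement_eq_one_iff_commute]
    exact hcd.map π
  exact Subgroup.mem_subgroupOf.1 ((QuotientGroup.eq_one_iff ⁅(⟨x₁ * c, hx⟩ : U), (⟨y₁ * d, hy⟩ : U)⁆).1 this)

/-- A Sylow subgroup of the derived group is normal. -/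
theorem derived_syl_inv (hsol : Group.IsSolvable K) {r : ℕ} [Fact r.Prime] {R : Subgroup Γ}
    (hR : Syl A K r R) : Inv K (R ⊓ ⁅K, K⁆) := by
  set D := ⁅K, K⁆
  have hDK : D ≤ K := Subgroup.commutator_le_self K
  have hDn : Group.IsNilpotent D := commutator_nilpotent h hsol
  have hS := hR.inf h hDK (h.inv.commutator h.inv)
  let S : Sylow r D := Sylow.ofCard ((R ⊓ D).subgroupOf D)
    ((Nat.card_congr (Subgroup.subgroupOfEquivOfLe inf_le_right).toEquiv).trans hS.card)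
  have hSn : (S : Subgroup D).Normal :=
    inferInstance
  refine inv_of_le fun g hg x hx => ?_
  have hgx : g * x * g⁻¹ ∈ D := (Inv.commutator (Subgroup.le_normalizer : Inv K K) Subgroup.le_normalizer).conj_mem hg hx.2
  have hord : IsPGroup r (zpowers (⟨g * x * g⁻¹, hgx⟩ : D)) := by
    obtain ⟨j, hj⟩ := hR.pgrp ⟨x, hx.1⟩
    have hj' : x ^ r ^ j = 1 := congrArg Subtype.val hj
    intro z
    obtain ⟨i, hi⟩ := Subgroup.mem_zpowers_iff.1 z.2
    refine ⟨j, Subtype.ext ?_⟩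
    rw [SubgroupClass.coe_pow, ← hi, ← zpow_natCast, ← zpow_mul, mul_comm, zpow_mul, zpow_natCast,
      show (⟨g * x * g⁻¹, hgx⟩ : D) ^ r ^ j = 1 from Subtype.ext (by
        rw [SubgroupClass.coe_pow, conj_pow, hj', mul_one, mul_inv_cancel]; rfl), one_zpow]
    rfl
  obtain ⟨T, hT⟩ := hord.exists_le_sylow
  haveI := Sylow.unique_of_normal S hSn
  rw [Subsingleton.elim T S] at hT
  exact hT (mem_zpowers _)

theorem derived_syl_commute (hsol : Group.IsSolvable K) {r s : ℕ} [Fact r.Prime] [Fact s.Prime] (hrs : r ≠ s)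
    {R S : Subgroup Γ} (hR : Syl A K r R) (hS : Syl A K s S) :
    R ⊓ ⁅K, K⁆ ≤ centralizer ((S ⊓ ⁅K, K⁆ : Subgroup Γ) : Set Γ) := by
  intro x hx y hy
  have hxK : x ∈ K := hR.le hx.1
  have hyK : y ∈ K := hS.le hy.1
  have h1 : ⁅x, y⁆ ∈ R ⊓ ⁅K, K⁆ := by
    rw [commutatorElement_def, mul_assoc, mul_assoc, ← mul_assoc y]
    exact mul_mem hx ((h.derived_syl_inv hsol hR).conj_mem hyK (inv_mem hx))
  have h2 : ⁅x, y⁆ ∈ S ⊓ ⁅K, K⁆ := by
    rw [commutatorElement_def]
    exact mul_mem ((h.derived_syl_inv hsol hS).conj_mem hxK hy) (inv_mem hy)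
  have hd : Disjoint R S := IsPGroup.disjoint_of_ne r s hrs R S hR.pgrp hS.pgrp
  exact (commutatorElement_eq_one_iff_mul_comm.1 (Subgroup.disjoint_def.1 hd h1.1 h2.1)).symm

theorem frattini (hsol : Group.IsSolvable K) {p : ℕ} [Fact p.Prime] {P : Subgroup Γ} (hP : Syl A K p P) :
    K ≤ ⁅K, K⁆ ⊔ (K ⊓ normalizer (P : Set Γ)) := by
  set D := ⁅K, K⁆
  have hDK : D ≤ K := Subgroup.commutator_le_self K
  set H := D ⊔ P
  have hHK : H ≤ K := sup_le hDK hP.le
  haveI : (H.subgroupOf K).Normal := by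
    refine (Subgroup.normal_subgroupOf_iff_le_normalizer hHK).2 (inv_of_le fun g hg x hx => ?_)
    rw [show g * x * g⁻¹ = ⁅g, x⁆ * x by simp [commutatorElement_def]]
    exact mul_mem (Subgroup.mem_sup_left (Subgroup.commutator_mem_commutator hg (hHK hx))) hx
  let S : Sylow p K := Sylow.ofCard (P.subgroupOf K)
    ((Nat.card_congr (Subgroup.subgroupOfEquivOfLe hP.le).toEquiv).trans hP.card)
  have htop := S.normalizer_sup_eq_top' (N := H.subgroupOf K) (fun x hx => Subgroup.mem_sup_right hx)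
  intro g hg
  have hgm : (⟨g, hg⟩ : K) ∈ Subgroup.normalizer ((S : Subgroup K) : Set K) ⊔ H.subgroupOf K := htop ▸ Subgroup.mem_top _
  have hle : (Subgroup.normalizer ((S : Subgroup K) : Set K) ⊔ H.subgroupOf K).map K.subtype ≤
      D ⊔ (K ⊓ normalizer (P : Set Γ)) := by
    rw [Subgroup.map_sup, Subgroup.map_subgroupOf_eq_of_le hHK]
    refine sup_le ?_ (sup_le le_sup_left ((le_inf hP.le Subgroup.le_normalizer).trans le_sup_right))
    refine le_trans (le_inf (Subgroup.map_subtype_le _) ?_) le_sup_right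
    exact (Subgroup.le_normalizer_map K.subtype).trans
      (by rw [show (S : Subgroup K) = P.subgroupOf K from rfl, Subgroup.map_subgroupOf_eq_of_le hP.le])
  exact hle ⟨⟨g, hg⟩, hgm, rfl⟩

end HypF

namespace MinCE

variable (h : MinCE A K q)
include h

theorem ne_bot : K ≠ ⊥ := fun e => h.nsolv (e ▸ inferInstance)

theorem not_solv {N : Subgroup Γ} (hN : Group.IsSolvable N) : N ≠ K := fun e => h.nsolv (e ▸ hN)

theorem normalizer_ne {W : Subgroup Γ} (hW : W ≤ K) (hWi : Inv A W) (hW0 : W ≠ ⊥) (hWs : W ≠ K) :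
    K ⊓ normalizer (W : Set Γ) ≠ K := by
  intro e
  rcases h.simple W hW hWi (inf_eq_left.1 e) with e' | e'
  · exact hW0 e'
  · exact hWs e'

theorem solv_normalizer {W : Subgroup Γ} (hW : W ≤ K) (hWi : Inv A W) (hW0 : W ≠ ⊥) (hWs : W ≠ K) :
    Group.IsSolvable ↥(K ⊓ normalizer (W : Set Γ)) :=
  h.proper _ inf_le_left (h.normalizer_ne hW hWi hW0 hWs) (h.inv.inf hWi.normalizer)

theorem centralizer_ne {W : Subgroup Γ} (hW : W ≤ K) (hWi : Inv A W) (hW0 : W ≠ ⊥) :
    K ⊓ centralizer (W : Set Γ) ≠ K := by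
  intro e
  have hc : K ≤ centralizer (W : Set Γ) := inf_eq_left.1 e
  rcases h.simple W hW hWi (inv_of_cent hc) with e' | e'
  · exact hW0 e'
  · subst e'
    haveI : IsMulCommutative W := ⟨⟨fun a b => Subtype.ext (hc b.2 a a.2)⟩⟩
    exact h.nsolv inferInstance

theorem no_npc {p : ℕ} [Fact p.Prime] (hp : p ∣ Nat.card K) (hn : HasNormalPComplement p K) : False := by
  obtain ⟨P, N, hN, hc⟩ := hn
  set N' := N.map K.subtype
  have hsub : N'.subgroupOf K = N := Subgroup.comap_map_eq_self_of_injective K.subtype_injective N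
  have hcop : (Nat.card N).Coprime N.index := by
    rw [hc.symm.index_eq_card]
    obtain ⟨j, hj⟩ := P.2.exists_card_eq
    rw [hj]
    refine Nat.Coprime.pow_right _ ?_
    rw [Nat.coprime_comm, (Fact.out : p.Prime).coprime_iff_not_dvd, ← hc.index_eq_card]
    exact P.not_dvd_index
  haveI : (N'.subgroupOf K).Normal := hsub ▸ hN
  have hNA : Inv A N' := inv_of_le fun g hg x hx => by
    obtain ⟨y, hy, rfl⟩ := hx
    refine mem_of_coprime_index (h.inv.conj_mem hg y.2) ?_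
    rw [hsub]
    refine hcop.coprime_dvd_left ?_
    rw [show orderOf (g * K.subtype y * g⁻¹) = orderOf (y : Γ) from (MulAut.conj g).orderOf_eq _,
      Subgroup.orderOf_coe]
    exact Subgroup.orderOf_dvd_natCard N hy
  have hNK : Inv K N' := inv_of_le fun g hg x hx => by
    obtain ⟨y, hy, rfl⟩ := hx
    exact ⟨⟨g, hg⟩ * y * ⟨g, hg⟩⁻¹, hN.conj_mem y hy _, rfl⟩
  rcases h.simple N' (Subgroup.map_subtype_le _) hNA hNK with e | e
  · have hN0 : N = ⊥ := (Subgroup.map_eq_bot_iff_of_injective _ K.subtype_injective).1 e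
    subst hN0
    have : (P : Subgroup K) = ⊤ := Subgroup.isComplement'_bot_left.1 hc
    haveI : Group.IsNilpotent (⊤ : Subgroup K) := this ▸ P.2.isNilpotent
    haveI : Group.IsNilpotent K := Group.nilpotent_of_mulEquiv Subgroup.topEquiv
    exact h.nsolv inferInstance
  · have hN1 : N = ⊤ := by rw [← hsub, e, Subgroup.subgroupOf_self]
    subst hN1
    have : (P : Subgroup K) = ⊥ := Subgroup.isComplement'_top_left.1 hc
    exact Sylow.ne_bot_of_dvd_card P hp this

end MinCE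

end CfsgLib.CoprimeAbCent
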