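import Cfsg.Agent.Lib.CoprimeGen
import Cfsg.Agent.Lib.CoprimeAbelian

/-!
Spanning by the fixed points of an operator acting fixed-point-freely on a coprime operator group.
-/

set_option autoImplicit false
set_option linter.unusedSectionVars false
set_option linter.style.haveILetI false

namespace CfsgLib.CoprimeAbCent

open Subgroup
open scoped commutatorElement IsMulCommutative

universe u
variable {Γ : Type u} [Group Γ] [Finite Γ]

theorem mem_normalizer_inf {H K : Subgroup Γ} {g : Γ} (hH : g ∈ normalizer (H : Set Γ))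
    (hK : g ∈ normalizer (K : Set Γ)) : g ∈ normalizer ((H ⊓ K : Subgroup Γ) : Set Γ) :=
  Subgroup.mem_normalizer_iff.2 fun x => by
    simp only [Subgroup.mem_inf]
    rw [Subgroup.mem_normalizer_iff.1 hH x, Subgroup.mem_normalizer_iff.1 hK x]

/-- An abelian group on which `Z` and `d` act without fixed points, `d` moving each element of `Z ∖ 1`,
is trivial. -/
theorem frob_fixed {V Z : Subgroup Γ} [IsMulCommutative V] {d : Γ} {q : ℕ} (hq : q.Prime) (hdq : d ^ q = 1)
    (hZV : Z ≤ normalizer (V : Set Γ)) (hdV : d ∈ normalizer (V : Set Γ)) (hdZ : d ∈ normalizer (Z : Set Γ))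
    (hcop : (Nat.card Z).Coprime (Nat.card V)) (hZd : ∀ z ∈ Z, d * z = z * d → z = 1)
    (hVZ : V ⊓ centralizer (Z : Set Γ) = ⊥) (hVd : ∀ v ∈ V, d * v = v * d → v = 1) : V = ⊥ := by
  classical
  have := Fintype.ofFinite Z
  haveI : Fact q.Prime := ⟨hq⟩
  let τ : ↥(normalizer (V : Set Γ)) →* MulAut V := normalizerMonoidHom V
  let dN : ↥(normalizer (V : Set Γ)) := ⟨d, hdV⟩
  have hdN : dN ^ q = 1 := Subtype.ext (by simp [dN, hdq])
  let zN : Z → ↥(normalizer (V : Set Γ)) := fun z => ⟨z, hZV z.2⟩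
  have hcomm : ∀ (g : ↥(normalizer (V : Set Γ))) (w : V), τ g w = w → (g : Γ) * w = w * g := fun g w h =>
    mul_inv_eq_iff_eq_mul.1 (congrArg Subtype.val h)
  rw [eq_bot_iff]
  intro v hv
  set w : V := ⟨v, hv⟩
  -- the sum over the conjugates of `⟨d⟩`
  have hT : ∀ z : Z, ∏ i : ZMod q, τ (zN z * dN ^ i.val * (zN z)⁻¹) w = 1 := by
    intro z
    have h1 : ∀ i : ZMod q, τ (zN z * dN ^ i.val * (zN z)⁻¹) w = τ (zN z) (τ (dN ^ i.val) (τ (zN z)⁻¹ w)) :=
      fun i => by simp [map_mul]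
    rw [Finset.prod_congr rfl fun i _ => h1 i, ← map_prod]
    have hfix : τ dN (∏ i : ZMod q, τ (dN ^ i.val) (τ (zN z)⁻¹ w)) = ∏ i : ZMod q, τ (dN ^ i.val) (τ (zN z)⁻¹ w) := by
      rw [map_prod]
      refine Fintype.prod_equiv (Equiv.addRight (1 : ZMod q)) _ _ fun i => ?_
      have e : dN * dN ^ i.val = dN ^ (i + 1).val := by
        rw [← pow_succ', ← Nat.mod_add_div (i.val + 1) q, pow_add, pow_mul, hdN, one_pow, mul_one,
          ZMod.val_add, ZMod.val_one]
      simp [← e, map_mul]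
    rw [show (∏ i : ZMod q, τ (dN ^ i.val) (τ (zN z)⁻¹ w)) = 1 from
      Subtype.ext (hVd _ (SetLike.coe_mem _) (hcomm dN _ hfix)), map_one]
  have hI : ∀ i : ZMod q, i ≠ 0 → ∏ z : Z, τ (zN z * dN ^ i.val * (zN z)⁻¹) w = 1 := by
    intro i hi
    have hzd : ∀ z : Z, (dN ^ i.val : ↥(normalizer (V : Set Γ))).1 * z * ((dN ^ i.val : ↥(normalizer (V : Set Γ))).1)⁻¹ ∈ Z := by
      intro z
      exact (mem_normalizer_iff.1 (by simpa [dN] using pow_mem hdZ i.val) _).1 z.2
    let ψ : Z → Z := fun z => z * ⟨_, hzd z⁻¹⟩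
    have hψ : Function.Injective ψ := by
      intro a b hab
      have h1 : (a : Γ) * (d ^ i.val * (a : Γ)⁻¹ * (d ^ i.val)⁻¹) = b * (d ^ i.val * (b : Γ)⁻¹ * (d ^ i.val)⁻¹) := by
        simpa [ψ, dN] using congrArg Subtype.val hab
      have h2 : Commute (d ^ i.val) ((b : Γ)⁻¹ * a) := by
        have h3 : d ^ i.val * ((b : Γ)⁻¹ * a) * (d ^ i.val)⁻¹ = (b : Γ)⁻¹ * a := by
          calc d ^ i.val * ((b : Γ)⁻¹ * a) * (d ^ i.val)⁻¹
              = (b : Γ)⁻¹ * (b * (d ^ i.val * (b : Γ)⁻¹ * (d ^ i.val)⁻¹)) * (d ^ i.val * a * (d ^ i.val)⁻¹) := by group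
            _ = _ := by rw [← h1]; group
        exact mul_inv_eq_iff_eq_mul.1 h3
      obtain ⟨k, hk⟩ := exists_pow_eq_self_of_coprime (x := d) (n := i.val) (by
        refine Nat.Coprime.coprime_dvd_right (orderOf_dvd_of_pow_eq_one hdq) ?_
        rw [Nat.coprime_comm, hq.coprime_iff_not_dvd]
        intro hd
        exact hi ((ZMod.val_eq_zero _).1 (Nat.eq_zero_of_dvd_of_lt hd (ZMod.val_lt _))))
      have h4 : d * ((b : Γ)⁻¹ * a) = (b : Γ)⁻¹ * a * d := by
        have := (h2.pow_left k).eq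
        rwa [hk] at this
      exact Subtype.ext (inv_mul_eq_one.1 (hZd _ (mul_mem (inv_mem b.2) a.2) h4)).symm
    have e : ∀ z : Z, τ (zN z * dN ^ i.val * (zN z)⁻¹) w = τ (zN (ψ z)) (τ (dN ^ i.val) w) := by
      intro z
      have : zN z * dN ^ i.val * (zN z)⁻¹ = zN (ψ z) * dN ^ i.val := Subtype.ext (by
        simp [zN, ψ, mul_assoc])
      rw [this, map_mul, MulAut.mul_apply]
    rw [Finset.prod_congr rfl fun z _ => e z, (Finite.injective_iff_bijective.1 hψ).prod_comp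
      (fun z => τ (zN z) (τ (dN ^ i.val) w))]
    refine Subtype.ext (Subgroup.mem_bot.1 (hVZ ▸ ⟨SetLike.coe_mem _, ?_⟩ : ((∏ z : Z, τ (zN z) (τ (dN ^ i.val) w) : V) : Γ) ∈ (⊥ : Subgroup Γ)))
    intro s hs
    refine hcomm (zN ⟨s, hs⟩) _ ?_
    rw [map_prod]
    refine Fintype.prod_equiv (Equiv.mulLeft (⟨s, hs⟩ : Z)) _ _ fun t => ?_
    have : zN (⟨s, hs⟩ * t) = zN ⟨s, hs⟩ * zN t := Subtype.ext rfl
    rw [Equiv.coe_mulLeft, this, map_mul, MulAut.mul_apply]
  have hall : ∏ i : ZMod q, ∏ z : Z, τ (zN z * dN ^ i.val * (zN z)⁻¹) w = 1 := by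
    rw [Finset.prod_comm]
    exact Finset.prod_eq_one fun z _ => hT z
  rw [Finset.prod_eq_single 0 (fun i _ hi => hI i hi) (fun h => absurd (Finset.mem_univ _) h)] at hall
  simp only [ZMod.val_zero, pow_zero, mul_one, mul_inv_cancel, map_one, MulAut.one_apply, Finset.prod_const,
    Finset.card_univ, ← Nat.card_eq_fintype_card] at hall
  have : w = 1 := orderOf_eq_one_iff.1 (Nat.eq_one_of_dvd_coprimes hcop (orderOf_dvd_of_pow_eq_one hall)
    (orderOf_dvd_natCard w))
  exact Subgroup.mem_bot.2 (congrArg Subtype.val this)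

/-- The Frattini subgroup of `E`, inside `Γ`. -/
abbrev phi (E : Subgroup Γ) : Subgroup Γ := (frattini E).map E.subtype

theorem phi_le (E : Subgroup Γ) : phi E ≤ E := Subgroup.map_subtype_le _

theorem le_normalizer_phi {E : Subgroup Γ} : normalizer (E : Set Γ) ≤ normalizer (phi E : Set Γ) :=
  (le_normalizer_map_characteristic le_rfl (frattini E)).1

theorem commutator_le_phi {E : Subgroup Γ} {r : ℕ} [Fact r.Prime] (hE : IsPGroup r E) : ⁅E, E⁆ ≤ phi E := by
  rw [Subgroup.commutator_le]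
  intro a ha b hb
  exact ⟨⁅(⟨a, ha⟩ : E), ⟨b, hb⟩⁆, commutator_le_frattini_pGroup hE
    (Subgroup.commutator_mem_commutator (Subgroup.mem_top _) (Subgroup.mem_top _)), rfl⟩

theorem eq_of_le_sup_phi {E X : Subgroup Γ} (hXE : X ≤ E) (h : E ≤ X ⊔ phi E) : E ≤ X := by
  rw [← Subgroup.subgroupOf_eq_top]
  refine frattini_nongenerating ?_
  rw [eq_top_iff]
  intro e _
  have : ((X.subgroupOf E ⊔ frattini E).map E.subtype) = X ⊔ phi E := by
    rw [Subgroup.map_sup, Subgroup.map_subgroupOf_eq_of_le hXE]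
  obtain ⟨e', he', heq⟩ := (this ▸ h e.2 : (e : Γ) ∈ (X.subgroupOf E ⊔ frattini E).map E.subtype)
  exact (Subtype.ext heq : e' = e) ▸ he'

/-- Coprime `Z` with `[E,Z] = E` fixes nothing outside `Φ(E)`. -/
theorem fixed_le_phi {E Z : Subgroup Γ} {r : ℕ} [Fact r.Prime] (hE : IsPGroup r E)
    (hZE : Z ≤ normalizer (E : Set Γ)) (hcop : (Nat.card Z).Coprime (Nat.card E)) (hEZ : ⁅E, Z⁆ = E) :
    E ⊓ centralizer (Z : Set Γ) ≤ phi E := by
  classical
  set N := normalizer (phi E : Set Γ)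
  set Φ' := (phi E).subgroupOf N
  haveI : Φ'.Normal := Subgroup.normal_in_normalizer
  have hEN : E ≤ N := Subgroup.le_normalizer.trans le_normalizer_phi
  have hZN : Z ≤ N := hZE.trans le_normalizer_phi
  let π := QuotientGroup.mk' Φ'
  set V := (E.subgroupOf N).map π
  set Z' := (Z.subgroupOf N).map π
  haveI : IsMulCommutative V := ⟨⟨fun a b => by
    obtain ⟨_, ⟨a, ha, rfl⟩⟩ := a
    obtain ⟨_, ⟨b, hb, rfl⟩⟩ := b
    apply Subtype.ext
    show π a * π b = π b * π a
    rw [← commutatorElement_eq_one_iff_mul_comm, ← map_commutatorElement, QuotientGroup.mk'_apply,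
      QuotientGroup.eq_one_iff]
    exact commutator_le_phi hE (Subgroup.commutator_mem_commutator ha hb)⟩⟩
  have hVZ : ⁅V, Z'⁆ = V := by
    rw [← Subgroup.map_commutator]
    refine congrArg (Subgroup.map π) (Subgroup.map_injective N.subtype_injective ?_)
    rw [Subgroup.map_commutator, Subgroup.map_subgroupOf_eq_of_le hEN, Subgroup.map_subgroupOf_eq_of_le hZN, hEZ]
  have hn : Z' ≤ normalizer (V : Set (N ⧸ Φ')) := by
    refine (Subgroup.map_mono ?_).trans (Subgroup.le_normalizer_map π)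
    intro z hz
    rw [Subgroup.mem_normalizer_iff]
    intro e
    exact Subgroup.mem_normalizer_iff.1 (hZE hz) e
  have hd := coprime_abelian_disjoint Z' V hn
    ((hcop.coprime_dvd_left ((Subgroup.card_map_dvd _ _).trans
      (Nat.card_congr (Subgroup.subgroupOfEquivOfLe hZN).toEquiv).dvd)).coprime_dvd_right
      ((Subgroup.card_map_dvd _ _).trans (Nat.card_congr (Subgroup.subgroupOfEquivOfLe hEN).toEquiv).dvd))
  rw [hVZ, inf_right_comm, inf_idem] at hd
  rintro e ⟨heE, heC⟩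
  have : π ⟨e, hEN heE⟩ ∈ (⊥ : Subgroup (N ⧸ Φ')) := hd ▸ ⟨Subgroup.mem_map_of_mem π (show (⟨e, hEN heE⟩ : N) ∈ E.subgroupOf N from heE), by
    rintro _ ⟨z, hz, rfl⟩
    rw [← map_mul, ← map_mul]
    exact congrArg π (Subtype.ext (heC z hz))⟩
  exact Subgroup.mem_subgroupOf.1 ((QuotientGroup.eq_one_iff (⟨e, hEN heE⟩ : N)).1 (Subgroup.mem_bot.1 this))

/-- If `C_V(d) ≤ Y` with `Y` invariant under `Z` and `d`, then `[V,Z] ≤ Y`. -/
theorem span {V Z Y : Subgroup Γ} {d : Γ} {q r : ℕ} [Fact r.Prime] (hq : q.Prime) (hdq : d ^ q = 1)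
    (hqr : q ≠ r) (hV : IsPGroup r V) (hZV : Z ≤ normalizer (V : Set Γ))
    (hdV : d ∈ normalizer (V : Set Γ)) (hdZ : d ∈ normalizer (Z : Set Γ))
    (hcop : (Nat.card Z).Coprime (Nat.card V)) (hZd : ∀ z ∈ Z, d * z = z * d → z = 1)
    (hZY : Z ≤ normalizer (Y : Set Γ)) (hdY : d ∈ normalizer (Y : Set Γ))
    (hfix : ∀ v ∈ V, d * v = v * d → v ∈ Y) : ⁅V, Z⁆ ≤ Y := by
  classical
  have hsol : Group.IsSolvable V := by
    have := hV.isNilpotent
    infer_instance
  set E := ⁅V, Z⁆ with hE0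
  have hEV : E ≤ V := commutator_le_of_le_normalizer hZV
  have hE : IsPGroup r E := hV.to_le hEV
  have hEZ : ⁅E, Z⁆ = E := coprime_commutator_commutator hZV hcop (Or.inr hsol)
  have hcopE : (Nat.card Z).Coprime (Nat.card E) := hcop.coprime_dvd_right (Subgroup.card_dvd_of_le hEV)
  have hZE : Z ≤ normalizer (E : Set Γ) := right_le_normalizer_commutator Z V
  have hdE : d ∈ normalizer (E : Set Γ) := by
    rw [Subgroup.mem_normalizer_iff_map_conj_eq, hE0, Subgroup.map_commutator,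
      Subgroup.mem_normalizer_iff_map_conj_eq.1 hdV, Subgroup.mem_normalizer_iff_map_conj_eq.1 hdZ]
  set W := (Y ⊓ E) ⊔ phi E with hW
  have hWE : W ≤ E := sup_le inf_le_right (phi_le E)
  have hnW : ∀ g ∈ normalizer (E : Set Γ), g ∈ normalizer (Y : Set Γ) → g ∈ normalizer (W : Set Γ) := by
    intro g hgE hgY
    exact Subgroup.normalizer_inf_normalizer_le_normalizer_sup _ _ ⟨mem_normalizer_inf hgY hgE, le_normalizer_phi hgE⟩
  set N := normalizer (W : Set Γ)
  have hZN : Z ≤ N := fun z hz => hnW z (hZE hz) (hZY hz)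
  have hdN : d ∈ N := hnW d hdE hdY
  have hcommW : ∀ a ∈ E, ∀ b ∈ E, ⁅a, b⁆ ∈ W := fun a ha b hb =>
    Subgroup.mem_sup_right (commutator_le_phi hE (Subgroup.commutator_mem_commutator ha hb))
  have hEN : E ≤ N := by
    have key : ∀ a ∈ E, ∀ w ∈ W, a * w * a⁻¹ ∈ W := fun a ha w hw => by
      rw [show a * w * a⁻¹ = ⁅a, w⁆ * w by simp [commutatorElement_def]]
      exact mul_mem (hcommW a ha w (hWE hw)) hw
    intro a ha
    refine Subgroup.mem_normalizer_iff.2 fun w => ⟨key a ha w, fun hw => ?_⟩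
    simpa [mul_assoc] using key a⁻¹ (inv_mem ha) _ hw
  set W' := W.subgroupOf N
  haveI : W'.Normal := Subgroup.normal_in_normalizer
  let π := QuotientGroup.mk' W'
  set E' := (E.subgroupOf N).map π
  set Z' := (Z.subgroupOf N).map π
  haveI : IsMulCommutative E' := ⟨⟨fun a b => by
    obtain ⟨_, ⟨a, ha, rfl⟩⟩ := a
    obtain ⟨_, ⟨b, hb, rfl⟩⟩ := b
    apply Subtype.ext
    show π a * π b = π b * π a
    rw [← commutatorElement_eq_one_iff_mul_comm, ← map_commutatorElement, QuotientGroup.mk'_apply,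
      QuotientGroup.eq_one_iff]
    exact hcommW _ ha _ hb⟩⟩
  have hker : ∀ {x : N}, π x = 1 ↔ (x : Γ) ∈ W := fun {x} => QuotientGroup.eq_one_iff x
  have hbot : E' = ⊥ := by
    refine frob_fixed (Z := Z') (d := π ⟨d, hdN⟩) hq ?_ ((Subgroup.map_mono ?_).trans (Subgroup.le_normalizer_map π))
      (Subgroup.le_normalizer_map π (Subgroup.mem_map_of_mem π ?_))
      (Subgroup.le_normalizer_map π (Subgroup.mem_map_of_mem π ?_)) ?_ ?_ ?_ ?_
    · rw [← map_pow, show (⟨d, hdN⟩ : N) ^ q = 1 from Subtype.ext (by simp [hdq]), map_one]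
    · exact fun z hz => Subgroup.mem_normalizer_iff.2 fun e => Subgroup.mem_normalizer_iff.1 (hZE hz) e
    · exact Subgroup.mem_normalizer_iff.2 fun e => Subgroup.mem_normalizer_iff.1 hdE e
    · exact Subgroup.mem_normalizer_iff.2 fun e => Subgroup.mem_normalizer_iff.1 hdZ e
    · exact (hcopE.coprime_dvd_left ((Subgroup.card_map_dvd _ _).trans
        (Nat.card_congr (Subgroup.subgroupOfEquivOfLe hZN).toEquiv).dvd)).coprime_dvd_right
        ((Subgroup.card_map_dvd _ _).trans (Nat.card_congr (Subgroup.subgroupOfEquivOfLe hEN).toEquiv).dvd)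
    · rintro _ ⟨z, hz, rfl⟩ hc
      rw [← map_mul, ← map_mul, ← mul_inv_eq_one, ← map_inv, ← map_mul, hker] at hc
      have h1 : d * (z : Γ) * ((z : Γ) * d)⁻¹ ∈ W := by simpa using hc
      have h2 : d * (z : Γ) * ((z : Γ) * d)⁻¹ ∈ Z := by
        rw [show d * (z : Γ) * ((z : Γ) * d)⁻¹ = d * z * d⁻¹ * (z : Γ)⁻¹ by group]
        exact mul_mem ((Subgroup.mem_normalizer_iff.1 hdZ _).1 hz) (inv_mem hz)
      rw [show z = 1 from Subtype.ext (hZd _ hz (mul_inv_eq_one.1 (Subgroup.disjoint_def.1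
        (Subgroup.disjoint_of_coprime_natCard hcopE) h2 (hWE h1)))), map_one]
    · rw [eq_bot_iff]
      rintro _ ⟨⟨e, he, rfl⟩, hc⟩
      rw [Subgroup.mem_bot, hker]
      obtain ⟨c, hcE, hcW⟩ := coprime_fixed_quotient hZE hcopE (Or.inr (by
        have := hE.isNilpotent; infer_instance)) hWE hEN hZN he (fun z hz => by
        have h' : π ⟨z, hZN hz⟩ * π e = π e * π ⟨z, hZN hz⟩ := hc _ (Subgroup.mem_map_of_mem π hz)
        rw [← mul_inv_eq_one, ← map_mul, ← map_mul, ← map_inv, ← map_mul, hker] at h'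
        simpa [mul_assoc] using h')
      have hcW' : c ∈ W := Subgroup.mem_sup_right (fixed_le_phi hE hZE hcopE hEZ hcE)
      have h3 := mul_mem hcW' (inv_mem hcW)
      simpa using h3
    · rintro _ ⟨e, he, rfl⟩ hc
      rw [hker]
      rw [← map_mul, ← map_mul, ← mul_inv_eq_one, ← map_inv, ← map_mul, hker] at hc
      have hcopd : (Nat.card (zpowers d)).Coprime (Nat.card E) := by
        obtain ⟨j, hj⟩ := hE.exists_card_eq
        rw [hj]
        refine Nat.Coprime.pow_right _ (Nat.Coprime.coprime_dvd_left ?_ ((Nat.coprime_primes hq Fact.out).2 hqr))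
        rw [Nat.card_zpowers]; exact orderOf_dvd_of_pow_eq_one hdq
      obtain ⟨c, hcE, hcW⟩ := coprime_fixed_quotient (A := zpowers d) (zpowers_le.2 hdE) hcopd (Or.inr (by
        have := hE.isNilpotent; infer_instance)) hWE hEN (zpowers_le.2 hdN) he (fun b hb => by
        obtain ⟨n, rfl⟩ := mem_powers_iff_mem_zpowers.2 hb
        simp only [Subgroup.coe_subtype]
        induction n with
        | zero => simp
        | succ n ih =>
          rw [show d ^ (n + 1) * (e : Γ) * (d ^ (n + 1))⁻¹ * (e : Γ)⁻¹ =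
            d * (d ^ n * (e : Γ) * (d ^ n)⁻¹ * (e : Γ)⁻¹) * d⁻¹ * (d * e * ((e : Γ) * d)⁻¹) by
              rw [pow_succ']; group]
          exact mul_mem ((Subgroup.mem_normalizer_iff.1 hdN _).1 (ih (pow_mem (mem_zpowers d) n)))
            (by simpa using hc))
      have hcW' : c ∈ W := Subgroup.mem_sup_left ⟨hfix c (hEV hcE.1) (hcE.2 d (mem_zpowers d)), hcE.1⟩
      have h3 := mul_mem hcW' (inv_mem hcW)
      simpa using h3
  have hEW : E ≤ (Y ⊓ E) ⊔ phi E := fun e he => by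
    have : π ⟨e, hEN he⟩ ∈ E' := Subgroup.mem_map_of_mem π (show (⟨e, hEN he⟩ : N) ∈ E.subgroupOf N from he)
    rw [hbot, Subgroup.mem_bot, hker] at this
    exact this
  exact (eq_of_le_sup_phi inf_le_right hEW).trans inf_le_left

/-- A coprime operator group with no common fixed point with `d` centralises `P` if `C_P(d) = 1`. -/
theorem centralize_of_fixed_bot {P Z : Subgroup Γ} {d : Γ} {q r : ℕ} [Fact r.Prime] (hq : q.Prime)
    (hdq : d ^ q = 1) (hqr : q ≠ r) (hP : IsPGroup r P) (hZP : Z ≤ normalizer (P : Set Γ))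
    (hdP : d ∈ normalizer (P : Set Γ)) (hdZ : d ∈ normalizer (Z : Set Γ))
    (hcop : (Nat.card Z).Coprime (Nat.card P)) (hZd : ∀ z ∈ Z, d * z = z * d → z = 1)
    (hfix : ∀ v ∈ P, d * v = v * d → v = 1) : Z ≤ centralizer (P : Set Γ) := by
  have h := span (Y := ⊥) hq hdq hqr hP hZP hdP hdZ hcop hZd
    (by rw [Subgroup.normalizer_eq_top]; exact le_top) (by rw [Subgroup.normalizer_eq_top]; trivial)
    (fun v hv h => Subgroup.mem_bot.2 (hfix v hv h))
  exact Subgroup.le_centralizer_iff.1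
    (Subgroup.commutator_eq_bot_iff_le_centralizer.1 (le_bot_iff.1 h))

end CfsgLib.CoprimeAbCent
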